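import Groth.Agent.Lib.FrobPull22.FixPoints
import Groth.Prelude.Def_Frob
import Mathlib.FieldTheory.Finite.Basic
import Mathlib.CategoryTheory.Monoidal.Cartesian.Over

/-!
# The `q`-Frobenius endomorphism over a finite field
-/

universe u

open CategoryTheory Limits AlgebraicGeometry MonoidalCategory CartesianMonoidalCategory MonObj

set_option linter.style.haveILetI false
set_option backward.isDefEq.respectTransparency false

namespace Groth.Agent.FrobPull22

section Iterate

variable (p : ℕ) [Fact p.Prime]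

/-- Iterates of the absolute Frobenius. -/
noncomputable def frobIter (W : Scheme.{u}) [FrobSch.IsCharP W p] : ℕ → (W ⟶ W)
  | 0 => 𝟙 W
  | m + 1 => frobIter W m ≫ FrobSch.frob W p

theorem frobIter_comp {W Y : Scheme.{u}} [FrobSch.IsCharP W p] [FrobSch.IsCharP Y p] (f : W ⟶ Y) :
    ∀ m, frobIter p W m ≫ f = f ≫ frobIter p Y m
  | 0 => (Category.id_comp f).trans (Category.comp_id f).symm
  | m + 1 => by
    show (frobIter p W m ≫ FrobSch.frob W p) ≫ f = f ≫ frobIter p Y m ≫ FrobSch.frob Y p
    rw [Category.assoc, FrobSch.frob_comp, reassoc_of% frobIter_comp f m]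

theorem frobIter_appLE (W : Scheme.{u}) [FrobSch.IsCharP W p] (m : ℕ) :
    ∃ hle : ∀ U : W.Opens, U ≤ frobIter p W m ⁻¹ᵁ U,
      ∀ (U : W.Opens) (s : Γ(W, U)), ((frobIter p W m).appLE U U (hle U)).hom s = s ^ p ^ m :=
  appLE_iterate (FrobSch.frob W p) (fun U => le_rfl)
    (fun U s => ConcreteCategory.congr_hom ((FrobSch.frob W p).appLE_eq_app (U := U)) s) _ rfl (fun _ => rfl) m

theorem frobIter_base (W : Scheme.{u}) [FrobSch.IsCharP W p] : ∀ m, (frobIter p W m).base = 𝟙 _
  | 0 => rfl
  | m + 1 => by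
    show (frobIter p W m ≫ FrobSch.frob W p).base = 𝟙 _
    rw [Scheme.Hom.comp_base, frobIter_base W m, FrobSch.frob_base, Category.comp_id]

end Iterate

variable (k : Type u) [Field k] [Finite k]

/-- The `q`-Frobenius endomorphism of a group scheme over a finite field is a homomorphism. -/
theorem exists_frobenius (X : Over (Spec (CommRingCat.of k))) [GrpObj X] :
    ∃ (π : X ⟶ X) (_ : IsMonHom π) (_ : π.left.base = 𝟙 _) (hle : ∀ U : X.left.Opens, U ≤ π.left ⁻¹ᵁ U),
      ∀ (U : X.left.Opens) (s : Γ(X.left, U)), (π.left.appLE U U (hle U)).hom s = s ^ Nat.card k := by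
  classical
  letI := Fintype.ofFinite k
  obtain ⟨p, hchar⟩ := CharP.exists k
  haveI := hchar
  obtain ⟨m, hp, hcard⟩ := FiniteField.card k p
  haveI := Fact.mk hp
  have hq : Nat.card k = p ^ (m : ℕ) := by rw [Nat.card_eq_fintype_card, hcard]
  haveI : ∀ W : Over (Spec (CommRingCat.of k)), FrobSch.IsCharP W.left p := fun W => FrobSch.IsCharP.of_hom W.hom p
  have hk : frobIter p (Spec (CommRingCat.of k)) m = 𝟙 _ := by
    obtain ⟨hle, happ⟩ := frobIter_appLE p (Spec (CommRingCat.of k)) m
    refine ext_of_isAffine ?_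
    ext s
    refine ((Scheme.ΓSpecIso (CommRingCat.of k)).commRingCatIsoToRingEquiv.injective ?_)
    have h1 : (frobIter p (Spec (CommRingCat.of k)) m).appTop s = s ^ p ^ (m : ℕ) := by
      rw [← happ ⊤ s, Scheme.Hom.appTop, ← Scheme.Hom.appLE_eq_app]
      rfl
    rw [h1, map_pow, ← hq, Nat.card_eq_fintype_card]
    exact FiniteField.pow_card _
  let fr : ∀ W : Over (Spec (CommRingCat.of k)), W ⟶ W := fun W => Over.homMk (frobIter p W.left m) (by
    rw [frobIter_comp, hk, Category.comp_id])
  have hnat : ∀ {W V : Over (Spec (CommRingCat.of k))} (f : W ⟶ V), fr W ≫ f = f ≫ fr V := fun f => by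
    ext1
    exact frobIter_comp p f.left m
  obtain ⟨hle, happ⟩ := frobIter_appLE p X.left m
  refine ⟨fr X, ?_, frobIter_base p X.left m, hle, fun U s => (happ U s).trans (by rw [hq])⟩
  constructor
  · rw [← hnat, toUnit_unique (fr (𝟙_ _)) (𝟙 _), Category.id_comp]
  · rw [← hnat]
    congr 1
    exact CartesianMonoidalCategory.hom_ext _ _ (by rw [hnat, tensorHom_fst]) (by rw [hnat, tensorHom_snd])

end Groth.Agent.FrobPull22
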