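import Groth.Agent.Lib.FrobPull22.Basic
import Groth.Agent.Lib.TateTors22.Lattice
import Groth.Agent.Lib.TateTors22.HomFinite
import Groth.Agent.Lib.Ample18.Ample

/-!
# The Frobenius endomorphism is a similitude for a positive definite form on `End A`
-/

universe u

open CategoryTheory Limits AlgebraicGeometry MonoidalCategory CartesianMonoidalCategory MonObj
open scoped GrpObj

set_option linter.style.haveILetI false
set_option backward.isDefEq.respectTransparency false

namespace Groth.Agent.FrobPull22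

noncomputable local instance instLawF22 (Y : Scheme.{u}) : PicGrp.Law Y := M2.law Y

/-- Finitely many semidefinite forms suffice to separate a lattice. -/
theorem exists_definite_sum {H : Type*} [AddCommGroup H] [Module.Free ℤ H] [Module.Finite ℤ H] {κ : Type*}
    (b : κ → LinearMap.BilinForm ℤ H) (hsym : ∀ c x y, b c x y = b c y x) (hnn : ∀ c x, 0 ≤ b c x x)
    (hsep : ∀ x, x ≠ 0 → ∃ c, 0 < b c x x) :
    ∃ t : Finset κ, ∀ x, x ≠ 0 → 0 < ∑ c ∈ t, b c x x := by
  classical
  let r : κ × H → Module.Dual ℤ H := fun p => b p.1 p.2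
  obtain ⟨t, ht, hspan⟩ := (Submodule.fg_span_iff_fg_span_finset_subset (Set.range r)).1
    (IsNoetherian.noetherian (Submodule.span ℤ (Set.range r)))
  choose p hp using fun f : (t : Set (Module.Dual ℤ H)) => ht f.2
  refine ⟨t.attach.image fun f => (p ⟨f.1, f.2⟩).1, fun x hx => ?_⟩
  refine lt_of_le_of_ne (Finset.sum_nonneg fun c _ => hnn c x) fun h0 => ?_
  have h := fun c hc => (Finset.sum_eq_zero_iff_of_nonneg fun c _ => hnn c x).1 h0.symm c hc
  obtain ⟨c, hc⟩ := hsep x hx
  have hle : Submodule.span ℤ (Set.range r) ≤ LinearMap.ker (Module.Dual.eval ℤ H x) := by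
    rw [hspan, Submodule.span_le]
    intro f hf
    rw [SetLike.mem_coe, LinearMap.mem_ker, Module.Dual.eval_apply,
      ← show r (p ⟨f, hf⟩) = f from hp ⟨f, hf⟩]
    have hb : b (p ⟨f, hf⟩).1 x x = 0 :=
      h _ (Finset.mem_image.2 ⟨⟨f, hf⟩, Finset.mem_attach _ _, rfl⟩)
    have hcs := LinearMap.BilinForm.apply_mul_apply_le_of_forall_zero_le (b (p ⟨f, hf⟩).1) (hnn _)
      (p ⟨f, hf⟩).2 x
    rw [hb, mul_zero, hsym _ x] at hcs
    exact mul_self_eq_zero.1 (le_antisymm hcs (mul_self_nonneg _))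
  have hcx : b c x x = 0 := hle (Submodule.subset_span ⟨(c, x), rfl⟩)
  omega

variable {k : Type u} [Field k] {A : Over (Spec (CommRingCat.of k))}
  [GrpObj A] [IsCommMonObj A] [IsProper A.hom] [GeometricallyIntegral A.hom]

/-- `D` is multiplied by `q` under an endomorphism pulling `L` back to its `q`-th power. -/
theorem D_comp_of_pull {L : A.left.Modules} (hL : PicF.IsInvertible L) (φ : A ⟶ A) [IsMonHom φ] {q : ℕ}
    (h : Nonempty ((Scheme.Modules.pullback φ.left).obj L ≅ CohB1.tensorPow L q))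
    {V : Over (Spec (CommRingCat.of k))} (x y : V ⟶ A) :
    CubeField.D L hL (x ≫ φ) (y ≫ φ) = CubeField.D L hL x y ^ q := by
  have hφ : CubeField.P L hL φ = CubeField.P L hL (𝟙 A) ^ q := by
    rw [CubeField.P_id]
    refine Subtype.ext ?_
    rw [PicGrp.cls_pow_val]
    exact M2.cl_eq_of_iso h.some
  have hP : ∀ z : V ⟶ A, CubeField.P L hL (z ≫ φ) = CubeField.P L hL z ^ q := fun z => by
    rw [← CubeField.pullHom_P, hφ, map_pow, CubeField.pullHom_P, Category.comp_id]
  rw [CubeField.D, CubeField.D, ← MonObj.mul_comp, hP, hP, hP, _root_.mul_pow, inv_pow, _root_.mul_pow]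

/-- Left multiplication by an endomorphism which is the `q`-th power on sections is a similitude of factor `q`. -/
theorem exists_form_similitude (π : A ⟶ A) [IsMonHom π]
    (hle : ∀ U : A.left.Opens, U ≤ π.left ⁻¹ᵁ U) {q : ℕ}
    (happ : ∀ (U : A.left.Opens) (s : Γ(A.left, U)), (π.left.appLE U U (hle U)).hom s = s ^ q) :
    ∃ B : LinearMap.BilinForm ℤ (EndAV.Hom A A), (∀ x y, B x y = B y x) ∧ (∀ x, x ≠ 0 → 0 < B x x) ∧
      ∀ x y, B (x ≫ EndAV.Hom.of π) (y ≫ EndAV.Hom.of π) = (q : ℤ) * B x y := by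
  classical
  haveI : Module.Finite ℤ (EndAV.Hom A A) := TateTors22.finite_hom
  haveI : Module.Free ℤ (EndAV.Hom A A) := TateTors22.free_hom
  let K := AlgebraicClosure k
  let s := Spec.map (CommRingCat.ofHom (algebraMap k K))
  let F := Over.pullback s
  letI gA : GrpObj (F.obj A) := Functor.grpObjObj
  haveI : IsProper (F.obj A).hom := inferInstanceAs (IsProper (pullback.snd A.hom s))
  haveI : GeometricallyIntegral (F.obj A).hom := inferInstanceAs (GeometricallyIntegral (pullback.snd A.hom s))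
  haveI : IsCommMonObj (F.obj A) := isCommMonObj_of_isProper_of_geometricallyIntegral _
  haveI : CompactSpace A.left := QuasiCompact.compactSpace_of_compactSpace A.hom
  obtain ⟨L₀, hLa₀, hsym₀⟩ := CubeField.exists_isAmple_symmetric A
  let p : (F.obj A).left ⟶ A.left := pullback.fst A.hom s
  haveI : IsAffineHom s := inferInstance
  haveI : IsAffineHom p := MorphismProperty.pullback_fst _ _ ‹IsAffineHom s›
  let L := (Scheme.Modules.pullback p).obj L₀
  have hLa : CohB1.IsAmple L := Amp.isAmple_pullback_of_isAffineHom p hLa₀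
  have hnat : ∀ f : A ⟶ A, (F.map f).left ≫ p = p ≫ f.left := fun f => by
    simp only [F, p, Over.pullback_map_left]
    exact pullback.lift_fst _ _ _
  let e : ∀ f : A ⟶ A, (Scheme.Modules.pullback (F.map f).left).obj L ≅
      (Scheme.Modules.pullback p).obj ((Scheme.Modules.pullback f.left).obj L₀) := fun f =>
    (Scheme.Modules.pullbackComp (F.map f).left p).app L₀ ≪≫
      (Scheme.Modules.pullbackCongr (hnat f)).app L₀ ≪≫ ((Scheme.Modules.pullbackComp p f.left).app L₀).symm
  have hsym : Nonempty (L ≅ (Scheme.Modules.pullback ((𝟙 (F.obj A))⁻¹).left).obj L) := by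
    have hi : F.map ((𝟙 A)⁻¹) = (𝟙 (F.obj A))⁻¹ := by
      rw [eq_inv_iff_mul_eq_one, ← F.map_id, ← F.map_mul, inv_mul_cancel]
      exact F.map_one
    rw [← hi]
    exact ⟨(Scheme.Modules.pullback p).mapIso hsym₀.some ≪≫ (e _).symm⟩
  haveI : IsMonHom (F.map π) := inferInstance
  have hπ : Nonempty ((Scheme.Modules.pullback (F.map π).left).obj L ≅ CohB1.tensorPow L q) := by
    obtain ⟨i⟩ := nonempty_pullback_iso_tensorPow π.left hle happ hLa₀.1
    exact ⟨e π ≪≫ (Scheme.Modules.pullback p).mapIso i ≪≫ M2.pullTensorPowIso p L₀ q⟩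
  let ev : EndAV.Hom A A → (F.obj A ⟶ F.obj A) := fun x => F.map x.toHom
  have hadd : ∀ x y, ev (x + y) = ev x * ev y := fun x y => by
    show F.map (x + y).toHom = F.map x.toHom * F.map y.toHom
    rw [EndAV.Hom.toHom_add]
    exact F.map_mul _ _
  let b : TateTors22.CurveTo (F.obj A) → LinearMap.BilinForm ℤ (EndAV.Hom A A) := fun c =>
    (AddMonoidHom.mk' (fun x => (AddMonoidHom.mk' (fun y => TateTors22.bForm hLa.1 c (ev x) (ev y)) fun y z => by
        rw [hadd, TateTors22.bForm_mul_right]).toIntLinearMap) fun x y => by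
      ext z
      show TateTors22.bForm hLa.1 c (ev (x + y)) (ev z) = _
      rw [hadd, TateTors22.bForm_mul_left]
      rfl).toIntLinearMap
  have hb : ∀ c x y, b c x y = TateTors22.bForm hLa.1 c (ev x) (ev y) := fun c x y => rfl
  obtain ⟨t, ht⟩ := exists_definite_sum b (fun c x y => by rw [hb, hb, TateTors22.bForm_comm])
    (fun c x => by rw [hb]; exact TateTors22.bForm_self_nonneg hLa hsym c _) fun x hx => by
    haveI : IsMonHom (ev x) := inferInstanceAs (IsMonHom (F.map x.toHom))
    have hne : ev x ≠ 1 := fun h => hx (EndAV.Hom.ext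
      ((TateTors22.map_injective_field K x.toHom 1 (h.trans F.map_one.symm)).trans EndAV.Hom.toHom_zero.symm))
    obtain ⟨C, i, iC, pC, hC, hpos⟩ := TateTors22.exists_curve_deg_pos (ev x) hne hLa
    refine ⟨⟨C, i, hC⟩, ?_⟩
    rw [hb, TateTors22.bForm_self hLa.1 hsym, CubeField.P, TateTors22.degCl_cls]
    exact mul_pos two_pos hpos
  refine ⟨∑ c ∈ t, b c, fun x y => ?_, fun x hx => ?_, fun x y => ?_⟩
  · simp only [LinearMap.sum_apply]
    exact Finset.sum_congr rfl fun c _ => by rw [hb, hb, TateTors22.bForm_comm]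
  · simp only [LinearMap.sum_apply]
    exact ht x hx
  · simp only [LinearMap.sum_apply, Finset.mul_sum]
    refine Finset.sum_congr rfl fun c _ => ?_
    letI : c.src.left.Over (Spec (CommRingCat.of K)) := ⟨c.src.hom⟩
    have hev : ∀ z : EndAV.Hom A A, ev (z ≫ EndAV.Hom.of π) = ev z ≫ F.map π := fun z => F.map_comp (EndAV.Hom.toHom z) π
    rw [hb, hb, hev, hev, TateTors22.bForm, TateTors22.bForm, ← Category.assoc, ← Category.assoc,
      D_comp_of_pull hLa.1 (F.map π) hπ]
    exact map_pow_deg c _ q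
where
  map_pow_deg {K : Type u} [Field K] {X : Over (Spec (CommRingCat.of K))} [GrpObj X] (c : TateTors22.CurveTo X)
      (a : PicLoc.PicSet c.src.left) (n : ℕ) :
      letI : c.src.left.Over (Spec (CommRingCat.of K)) := ⟨c.src.hom⟩
      TateTors22.degCl K c.src.left (a ^ n) = (n : ℤ) * TateTors22.degCl K c.src.left a := by
    letI : c.src.left.Over (Spec (CommRingCat.of K)) := ⟨c.src.hom⟩
    induction n with
    | zero => rw [pow_zero, TateTors22.degCl_one]; simp
    | succ n ih => rw [pow_succ, TateTors22.degCl_mul c.curve, ih]; push_cast; ring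

end Groth.Agent.FrobPull22
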