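import Groth.Agent.Lib.CubeField.AmpleSec

/-!
# Pullback of an invertible module by the `q`-th power endomorphism of a scheme
-/

universe u

open CategoryTheory Limits AlgebraicGeometry TopologicalSpace Opposite

set_option linter.style.haveILetI false
set_option backward.isDefEq.respectTransparency false

namespace Groth.Agent.FrobPull22

variable {W : Scheme.{u}}

/-- An endomorphism which is the `q`-th power on sections pulls an invertible module back to its `q`-th power. -/
theorem nonempty_pullback_iso_tensorPow [CompactSpace W] (F : W ⟶ W) (hle : ∀ U : W.Opens, U ≤ F ⁻¹ᵁ U) {q : ℕ}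
    (happ : ∀ (U : W.Opens) (s : Γ(W, U)), (F.appLE U U (hle U)).hom s = s ^ q)
    {L : W.Modules} (hL : PicF.IsInvertible L) :
    Nonempty ((Scheme.Modules.pullback F).obj L ≅ CohB1.tensorPow L q) := by
  obtain ⟨n, c, -, hcov, ⟨T⟩⟩ := CubeField.exists_triv L hL
  let P := (Scheme.Modules.pullback F).obj L
  let p : ∀ i, Γ(P, c.V i) := fun i => M1.mres P (hle (c.V i)) ((T.pull F).e i)
  let Q := CohB1.tensorPow L q
  let T' := T.pow hL q
  refine ⟨(Twist.exists_iso_of_gen c.V hcov p T'.e (fun i => ((T.pull F).gen i).mres (hle _)) T'.gen ?_).choose⟩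
  intro i j V hi hj t ht
  have hV : V ≤ c.V i ⊓ c.V j := le_inf hi hj
  have hF : V ≤ F ⁻¹ᵁ (c.V i ⊓ c.V j) := hV.trans (hle _)
  have hfun : CubeField.rs hF ((c.pull F).g i j) = CubeField.rs hV (c.g i j ^ q) := by
    rw [← happ]
    show _ = CubeField.rs hV (CubeField.rs (hle (c.V i ⊓ c.V j)) (F.app _ (c.g i j)))
    rw [CubeField.rs_rs]
    rfl
  have h1 : M1.mres P hj (p j) = CubeField.rs hV (c.g i j ^ q) • M1.mres P hi (p i) := by
    simp only [p, M1.mres_mres, ← hfun]
    have h := congrArg (M1.mres P hF) ((T.pull F).trans i j)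
    erw [M1.mres_mres, M1.mres_smul, M1.mres_mres] at h
    exact h
  have hteq : t = CubeField.rs hV (c.g i j ^ q) :=
    ((((T.pull F).gen i).mres (hle _)) V hi).1 (ht.symm.trans h1)
  have h2 := congrArg (M1.mres (CohB1.tensorPow L q) hV) (T'.trans i j)
  erw [M1.mres_mres, M1.mres_smul, M1.mres_mres] at h2
  rw [hteq]
  exact h2

end Groth.Agent.FrobPull22
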