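import Groth.Agent.Lib.AVDegree22.SpectralMap
import Mathlib.Analysis.Complex.Polynomial.Basic
import Mathlib.Analysis.SpecialFunctions.Log.Basic
import Mathlib.Analysis.Polynomial.Basic
import Mathlib.Topology.Order.IntermediateValue

/-!
# Integer polynomials all of whose roots have absolute value `√q`
-/

open Polynomial
open scoped ComplexConjugate

set_option linter.style.haveILetI false

namespace Groth.Agent.FrobPull22

/-- A monic real polynomial without real roots has even degree and positive constant term. -/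
theorem even_and_pos_of_no_root {R : ℝ[X]} (hR : R.Monic) (h : ∀ x, ¬ R.IsRoot x) :
    Even R.natDegree ∧ 0 < R.eval 0 := by
  have hpos : ∀ S : ℝ[X], S.Monic → (∀ x, ¬ S.IsRoot x) → 0 < S.eval 0 := fun S hS hSr => by
    rcases Nat.eq_zero_or_pos S.natDegree with h0 | h0
    · simp [hS.natDegree_eq_zero.1 h0]
    have ht := S.tendsto_atTop_of_leadingCoeff_nonneg (natDegree_pos_iff_degree_pos.1 h0)
      (by rw [hS.leadingCoeff]; exact zero_le_one)
    obtain ⟨t, ht1, ht2⟩ := ((ht.eventually_gt_atTop 0).and (Filter.eventually_gt_atTop 0)).exists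
    by_contra hle
    obtain ⟨x, -, hx⟩ := intermediate_value_Icc ht2.le S.continuous.continuousOn ⟨not_lt.1 hle, ht1.le⟩
    exact hSr x hx
  refine ⟨?_, hpos R hR h⟩
  by_contra hodd
  rw [Nat.not_even_iff_odd] at hodd
  have hS : (-(R.comp (-X))).Monic := by
    rw [Monic, leadingCoeff_neg, leadingCoeff_comp (by simp [natDegree_neg]), hR.leadingCoeff]
    simp [hodd.neg_one_pow]
  have h2 := hpos _ hS fun x hx => h (-x) (by simpa [IsRoot] using hx)
  have := hpos R hR h
  simp at h2
  linarith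

theorem eq_or_eq_neg_of_root {P : ℤ[X]} {s : ℝ} (hroots : ∀ α ∈ (P.map (Int.castRingHom ℂ)).roots, ‖α‖ = s)
    (hP : P ≠ 0) {x : ℝ} (hx : (P.map (Int.castRingHom ℝ)).IsRoot x) : x = s ∨ x = -s := by
  have h : (x : ℂ) ∈ (P.map (Int.castRingHom ℂ)).roots := by
    rw [mem_roots ((Polynomial.map_ne_zero_iff (RingHom.injective_int _)).2 hP)]
    have := hx.map (f := Complex.ofRealHom)
    rwa [Polynomial.map_map, RingHom.ext_int (Complex.ofRealHom.comp (Int.castRingHom ℝ)) (Int.castRingHom ℂ)] at this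
  have h2 := hroots _ h
  rw [Complex.norm_real, Real.norm_eq_abs] at h2
  exact eq_or_eq_neg_of_abs_eq h2

/-- The real roots `± s` have even multiplicity. -/
theorem even_rootMultiplicity {P : ℤ[X]} {g : ℕ} {s : ℝ} (hs : 0 < s) (hP : P.Monic) (hdeg : P.natDegree = 2 * g)
    (h0 : 0 ≤ P.eval 0) (hroots : ∀ α ∈ (P.map (Int.castRingHom ℂ)).roots, ‖α‖ = s) :
    Even ((P.map (Int.castRingHom ℝ)).rootMultiplicity s) ∧ Even ((P.map (Int.castRingHom ℝ)).rootMultiplicity (-s)) := by
  set F := P.map (Int.castRingHom ℝ)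
  have hF : F.Monic := hP.map _
  obtain ⟨F₁, hF₁, hF₁r⟩ := exists_eq_pow_rootMultiplicity_mul_and_not_dvd F hF.ne_zero s
  set a := F.rootMultiplicity s
  have hF₁m : F₁.Monic := ((monic_X_sub_C s).pow a).of_mul_monic_left (hF₁ ▸ hF)
  obtain ⟨R, hR, hRr⟩ := exists_eq_pow_rootMultiplicity_mul_and_not_dvd F₁ hF₁m.ne_zero (-s)
  have hb : F.rootMultiplicity (-s) = F₁.rootMultiplicity (-s) := by
    conv_lhs => rw [hF₁, rootMultiplicity_mul (hF₁ ▸ hF.ne_zero)]
    rw [rootMultiplicity_eq_zero (p := (X - C s) ^ a) (fun h => by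
      simp only [IsRoot, eval_pow, eval_sub, eval_X, eval_C] at h
      have := eq_zero_of_pow_eq_zero h
      linarith), zero_add]
  rw [hb]
  set b := F₁.rootMultiplicity (-s)
  have hRm : R.Monic := ((monic_X_sub_C (-s)).pow b).of_mul_monic_left (hR ▸ hF₁m)
  have hno : ∀ x, ¬ R.IsRoot x := fun x hx => by
    have hx1 : F₁.IsRoot x := by rw [hR]; exact hx.dvd (dvd_mul_left _ _)
    have hxF : F.IsRoot x := by rw [hF₁]; exact hx1.dvd (dvd_mul_left _ _)
    rcases eq_or_eq_neg_of_root hroots hP.ne_zero hxF with rfl | rfl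
    · exact hF₁r (dvd_iff_isRoot.2 hx1)
    · exact hRr (dvd_iff_isRoot.2 hx)
  obtain ⟨hev, hpos⟩ := even_and_pos_of_no_root hRm hno
  have hd : a + (b + R.natDegree) = 2 * g := by
    rw [← hdeg, ← hP.natDegree_map (Int.castRingHom ℝ)]
    show _ = F.natDegree
    rw [hF₁, ((monic_X_sub_C s).pow a).natDegree_mul hF₁m, hR, ((monic_X_sub_C (-s)).pow b).natDegree_mul hRm,
      (monic_X_sub_C s).natDegree_pow, (monic_X_sub_C (-s)).natDegree_pow, natDegree_X_sub_C, natDegree_X_sub_C,
      mul_one, mul_one]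
  have hF0 : F.eval 0 = (-1) ^ a * (s ^ a * s ^ b * R.eval 0) := by
    rw [hF₁, hR]
    simp only [eval_mul, eval_pow, eval_sub, eval_X, eval_C, zero_sub, neg_neg]
    rw [neg_pow s a]
    ring
  have hF0' : 0 ≤ F.eval 0 := by
    rw [eval_zero_map]
    rw [eq_intCast]; exact_mod_cast h0
  have ha : Even a := by
    by_contra ha
    rw [Nat.not_even_iff_odd] at ha
    rw [hF0, ha.neg_one_pow] at hF0'
    have : 0 < s ^ a * s ^ b * R.eval 0 := by positivity
    linarith
  refine ⟨ha, ?_⟩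
  obtain ⟨i, hi⟩ := hev
  obtain ⟨j, hj⟩ := ha
  exact ⟨g - i - j, by omega⟩

/-- The product of an integer polynomial over the roots of a monic integer polynomial is rational. -/
theorem exists_rat_prod_eval (P : ℤ[X]) (hP : P.Monic) (F : ℤ[X]) :
    ∃ c : ℚ, (c : ℂ) = ((P.map (Int.castRingHom ℂ)).roots.map fun α => aeval α F).prod := by
  obtain ⟨M, hM⟩ := AVDegree22.exists_matrix_det_eq (P.map (Int.castRingHom ℚ)) (hP.map _) rfl
  let M' := -M
  have hM' : M'.charpoly = P.map (Int.castRingHom ℚ) := Polynomial.funext fun t => by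
    rw [Matrix.eval_charpoly, sub_neg_eq_add, ← hM, Matrix.algebraMap_eq_diagonal]
    rfl
  refine ⟨(aeval M' (F.map (Int.castRingHom ℚ))).det, ?_⟩
  have hr := AVDegree22.roots_charpoly_aeval_rat M' F _ hM' (T := ℂ)
  rw [Polynomial.map_map, RingHom.ext_int ((algebraMap ℚ ℂ).comp (Int.castRingHom ℚ)) (Int.castRingHom ℂ)] at hr
  rw [← hr, ← Matrix.charpoly_map]
  show algebraMap ℚ ℂ _ = _
  rw [RingHom.map_det, RingHom.mapMatrix_apply, Matrix.det_eq_prod_roots_charpoly]

/-- The bound `|trace| ≤ g ⌊2√q⌋`. -/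
theorem abs_nextCoeff_le {P : ℤ[X]} {g q : ℕ} (hq : q ≠ 0) (hP : P.Monic) (hdeg : P.natDegree = 2 * g)
    (hroots : ∀ α ∈ (P.map (Int.castRingHom ℂ)).roots, ‖α‖ = Real.sqrt q) :
    |(P.nextCoeff : ℝ)| ≤ (g : ℝ) * (⌊2 * Real.sqrt q⌋ : ℝ) := by
  set G := P.map (Int.castRingHom ℂ)
  set S := G.roots
  set m := ⌊2 * Real.sqrt q⌋
  have hG : G.Monic := hP.map _
  have hcard : S.card = 2 * g := by
    rw [← hdeg, ← hP.natDegree_map (Int.castRingHom ℂ), (IsAlgClosed.splits G).natDegree_eq_card_roots]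
  have hsum : S.sum = -(P.nextCoeff : ℂ) := by
    rw [← eq_intCast (Int.castRingHom ℂ), ← nextCoeff_map (RingHom.injective_int _)]
    show S.sum = -G.nextCoeff
    rw [(IsAlgClosed.splits G).nextCoeff_eq_neg_sum_roots_of_monic hG, neg_neg]
  have hre : (S.map Complex.re).sum = -(P.nextCoeff : ℝ) := by
    have := map_multiset_sum Complex.reLm.toAddMonoidHom S
    rw [hsum] at this
    simpa using this.symm
  have key : ∀ e : ℤ, e = 1 ∨ e = -1 → (e : ℝ) * (P.nextCoeff : ℝ) ≤ g * m := fun e he => by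
    let f : ℂ → ℝ := fun α => (m : ℝ) + 1 + 2 * e * α.re
    have hf : ∀ α ∈ S, 0 < f α := fun α hα => by
      have h1 : |α.re| ≤ Real.sqrt q := (Complex.abs_re_le_norm α).trans_eq (hroots α hα)
      have h2 := Int.lt_floor_add_one (2 * Real.sqrt q)
      have h3 : (2 * Real.sqrt q : ℝ) < (m : ℝ) + 1 := h2
      rcases he with rfl | rfl <;> (simp only [f]; push_cast; nlinarith [abs_le.1 h1])
    have hroot : ∀ α ∈ S, IsIntegral ℤ α := fun α hα =>
      ⟨P, hP, by rw [← eval_map, algebraMap_int_eq]; exact (mem_roots'.1 hα).2⟩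
    have hfint : ∀ α ∈ S, IsIntegral ℤ ((f α : ℝ) : ℂ) := fun α hα => by
      have hc : IsIntegral ℤ (conj α) := (hroot α hα).map (starRingEnd ℂ).toIntAlgHom
      have : ((f α : ℝ) : ℂ) = ((m + 1 : ℤ) : ℂ) + (e : ℂ) * (α + conj α) := by
        rw [Complex.add_conj]; simp only [f]; push_cast; ring
      rw [this]
      exact (isIntegral_algebraMap (x := m + 1)).add ((isIntegral_algebraMap (x := e)).mul ((hroot α hα).add hc))
    obtain ⟨c, hc⟩ := exists_rat_prod_eval P hP (C e * X ^ 2 + C (m + 1) * X + C (e * q))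
    obtain ⟨d, hd⟩ := exists_rat_prod_eval P hP X
    have hqc : ∀ α ∈ S, α * conj α = (q : ℂ) := fun α hα => by
      rw [Complex.mul_conj', hroots α hα, ← Complex.ofReal_pow, Real.sq_sqrt (Nat.cast_nonneg q)]
      simp
    have hmul : (d : ℂ) * (((S.map f).prod : ℝ) : ℂ) = c := by
      rw [hc, hd, show (((S.map f).prod : ℝ) : ℂ) = (S.map fun α => ((f α : ℝ) : ℂ)).prod by
        rw [← Complex.ofRealHom_eq_coe, map_multiset_prod, Multiset.map_map]; rfl, ← Multiset.prod_map_mul]
      refine congrArg Multiset.prod (Multiset.map_congr rfl fun α hα => ?_)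
      simp only [aeval_X, map_add, map_mul, aeval_C, map_pow, f]
      push_cast [algebraMap_int_eq, eq_intCast, Int.cast_add, Int.cast_mul, Int.cast_one, Int.cast_natCast]
      have h2 := Complex.add_conj α
      push_cast at h2
      linear_combination (e : ℂ) * hqc α hα - (e : ℂ) * α * h2
    have hd0 : (d : ℂ) ≠ 0 := by
      rw [hd, Ne, Multiset.prod_eq_zero_iff]
      intro h
      obtain ⟨α, hα, h0⟩ := Multiset.mem_map.1 h
      rw [aeval_X] at h0
      have := hroots α hα
      rw [h0, norm_zero] at this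
      exact (Real.sqrt_ne_zero'.2 (Nat.cast_pos.2 (Nat.pos_of_ne_zero hq))) this.symm
    have hprod : (((S.map f).prod : ℝ) : ℂ) = ((c / d : ℚ) : ℂ) := by
      rw [Rat.cast_div, eq_div_iff hd0, mul_comm, hmul]
    have hint : IsIntegral ℤ ((c / d : ℚ) : ℂ) := by
      rw [← hprod, ← Complex.ofRealHom_eq_coe, map_multiset_prod, Multiset.map_map]
      exact IsIntegral.multiset_prod fun x hx => by
        obtain ⟨α, hα, rfl⟩ := Multiset.mem_map.1 hx
        exact hfint α hα
    obtain ⟨z, hz⟩ := IsIntegrallyClosed.isIntegral_iff.1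
      ((isIntegral_algHom_iff (algebraMap ℚ ℂ).toIntAlgHom (algebraMap ℚ ℂ).injective).1 hint)
    have hz' : (S.map f).prod = (z : ℝ) := by
      have h1 : (((S.map f).prod : ℝ) : ℂ) = ((z : ℝ) : ℂ) := by
        rw [hprod, ← hz]; simp
      exact_mod_cast h1
    have hpos : 0 < (S.map f).prod := Multiset.prod_pos fun x hx => by
      obtain ⟨α, hα, rfl⟩ := Multiset.mem_map.1 hx
      exact hf α hα
    have h1 : (1 : ℝ) ≤ (S.map f).prod := by
      rw [hz'] at hpos ⊢
      exact_mod_cast (Int.cast_pos.1 hpos)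
    have hlog : 0 ≤ (S.map fun α => f α - 1).sum := by
      refine (Real.log_nonneg h1).trans ?_
      rw [Real.log_multiset_prod (fun x hx => by
        obtain ⟨α, hα, rfl⟩ := Multiset.mem_map.1 hx
        exact (hf α hα).ne'), Multiset.map_map]
      exact Multiset.sum_map_le_sum_map _ _ fun α hα => Real.log_le_sub_one_of_pos (hf α hα)
    have h2 : (S.map fun α => f α - 1).sum = 2 * g * m + 2 * e * (-(P.nextCoeff : ℝ)) := by
      have : (S.map fun α => f α - 1) = S.map fun α => (m : ℝ) + 2 * e * α.re :=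
        Multiset.map_congr rfl fun α _ => by simp only [f]; ring
      rw [this, Multiset.sum_map_add, Multiset.map_const', Multiset.sum_replicate, hcard, nsmul_eq_mul,
        Multiset.sum_map_mul_left, hre]
      push_cast
      ring
    linarith
  rw [abs_le]
  have k1 := key 1 (Or.inl rfl)
  have k2 := key (-1) (Or.inr rfl)
  push_cast at k1 k2
  constructor <;> linarith

end Groth.Agent.FrobPull22
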