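import Groth.Agent.Lib.FrobPull22.Spectral
import Groth.Agent.Lib.FrobPull22.RootBounds

/-!
# The characteristic polynomial of Frobenius
-/

universe u

open CategoryTheory Limits AlgebraicGeometry MonoidalCategory CartesianMonoidalCategory MonObj
open Polynomial

set_option linter.style.haveILetI false
set_option backward.isDefEq.respectTransparency false

namespace Groth.Agent.FrobPull22

variable {k : Type u} [Field k] {A : Over (Spec (CommRingCat.of k))}
  [GrpObj A] [IsCommMonObj A] [IsProper A.hom] [GeometricallyIntegral A.hom] [IsIntegral A.left]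
  (K : Type u) [Field K] [Algebra k K] [IsAlgClosed K] {l : ℕ} [Fact l.Prime]

theorem charpoly_spec (hl : (l : k) ≠ 0) [Module.Free ℤ_[l] (AbDual.TateMod A l (SGA7.pt (K := k) K))]
    [Module.Finite ℤ_[l] (AbDual.TateMod A l (SGA7.pt (K := k) K))] {g : ℕ} (hg : topologicalKrullDim A.left = g)
    (φ : EndAV.End A) {P : ℤ[X]}
    (hP : (EndAV.End.tateRep l (SGA7.pt (K := k) K) φ).charpoly = P.map (Int.castRingHom ℤ_[l])) :
    P.Monic ∧ P.natDegree = 2 * g ∧ ∀ n : ℤ, P.eval n = AVDegree22.deg0 (φ - (n : EndAV.End A)) := by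
  obtain ⟨C₀, hm, hd, he, hc⟩ := AVDegree22.exists_int_charpoly (K := K) hl hg φ
  obtain rfl : P = C₀ := map_injective (Int.castRingHom ℤ_[l]) (RingHom.injective_int _) (hP.symm.trans hc)
  exact ⟨hm, hd, he⟩

theorem minpoly_dvd_charpoly (hl : (l : k) ≠ 0) [Module.Free ℤ_[l] (AbDual.TateMod A l (SGA7.pt (K := k) K))]
    [Module.Finite ℤ_[l] (AbDual.TateMod A l (SGA7.pt (K := k) K))] (φ : EndAV.End A) {P : ℤ[X]}
    (hP : (EndAV.End.tateRep l (SGA7.pt (K := k) K) φ).charpoly = P.map (Int.castRingHom ℤ_[l])) :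
    minpoly ℚ (EndAV.toEnd0 φ) ∣ P.map (Int.castRingHom ℚ) := by
  refine minpoly.dvd ℚ _ ?_
  have h0 : aeval φ P = 0 := by
    refine AVDegree22.tateRep_injective K l hl ?_
    rw [map_zero, AVDegree22.aeval_tateRep, ← hP]
    exact LinearMap.aeval_self_charpoly _
  rw [← algebraMap_int_eq, aeval_map_algebraMap, aeval_algHom_apply, h0, map_zero]

theorem irreducible_minpoly_of_isField (φ : EndAV.End A) (hf : IsField (EndAV.QAdj φ)) :
    Irreducible (minpoly ℚ (EndAV.toEnd0 φ)) := by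
  let a : EndAV.QAdj φ := ⟨EndAV.toEnd0 φ, Algebra.subset_adjoin rfl⟩
  rw [show minpoly ℚ (EndAV.toEnd0 φ) = minpoly ℚ a from
    minpoly.algHom_eq (EndAV.QAdj φ).val Subtype.val_injective a]
  have hint : IsIntegral ℚ a :=
    (isIntegral_algHom_iff (EndAV.QAdj φ).val Subtype.val_injective).1 (AVDegree22.exists_int_minpoly φ).1
  haveI : IsDomain (EndAV.QAdj φ) := hf.isDomain
  exact minpoly.irreducible hint

theorem isField_of_irreducible_minpoly {F S : Type*} [Field F] [Ring S] [Algebra F S] (a : S)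
    (h : Irreducible (minpoly F a)) : IsField (Algebra.adjoin F {a}) := by
  haveI : Fact (Irreducible (minpoly F a)) := ⟨h⟩
  let b : Algebra.adjoin F {a} := ⟨a, Algebra.subset_adjoin rfl⟩
  have hval : ∀ p : F[X], ((aeval b p : Algebra.adjoin F {a}) : S) = aeval a p := fun p =>
    (aeval_algHom_apply (Algebra.adjoin F {a}).val b p).symm
  let g : AdjoinRoot (minpoly F a) →+* Algebra.adjoin F {a} := Ideal.Quotient.lift _ (aeval b).toRingHom fun p hp => by
    obtain ⟨r, rfl⟩ := Ideal.mem_span_singleton'.1 hp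
    exact Subtype.ext ((hval _).trans (by rw [map_mul, minpoly.aeval, mul_zero]; rfl))
  have hsurj : Function.Surjective g := fun x => by
    obtain ⟨p, hp⟩ : ∃ p, aeval a p = (x : S) :=
      (SetLike.ext_iff.1 (Algebra.adjoin_singleton_eq_range_aeval F a) _).1 x.2
    exact ⟨AdjoinRoot.mk _ p, Subtype.ext ((hval p).trans hp)⟩
  have hnt : Nontrivial (Algebra.adjoin F {a}) := by
    refine ⟨⟨0, 1, fun e => h.not_isUnit ?_⟩⟩
    have h1 : (1 : S) = 0 := (congrArg Subtype.val e).symm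
    exact isUnit_of_dvd_one (minpoly.dvd F a (by rw [map_one]; exact h1))
  exact MulEquiv.isField (Field.toIsField (AdjoinRoot (minpoly F a)))
    (RingEquiv.ofBijective g ⟨g.injective, hsurj⟩).symm.toMulEquiv

theorem isField_iff_pow_irreducible (hl : (l : k) ≠ 0) [Module.Free ℤ_[l] (AbDual.TateMod A l (SGA7.pt (K := k) K))]
    [Module.Finite ℤ_[l] (AbDual.TateMod A l (SGA7.pt (K := k) K))] (φ : EndAV.End A)
    (hsq : Squarefree (minpoly ℚ (EndAV.toEnd0 φ))) {P : ℤ[X]}
    (hP : (EndAV.End.tateRep l (SGA7.pt (K := k) K) φ).charpoly = P.map (Int.castRingHom ℤ_[l])) :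
    IsField (EndAV.QAdj φ) ↔ ∃ (h : ℚ[X]) (n : ℕ), Irreducible h ∧ 0 < n ∧ P.map (Int.castRingHom ℚ) = h ^ n := by
  obtain ⟨g, hg⟩ : ∃ g : ℕ, topologicalKrullDim A.left = g := ⟨_, VarDim.dim_eq_sdim_genericPoint A.hom⟩
  obtain ⟨hm, hd, -⟩ := charpoly_spec K hl hg φ hP
  refine ⟨fun hf => ?_, ?_⟩
  · have hirr := irreducible_minpoly_of_isField φ hf
    obtain ⟨P', hP', hP'e⟩ := AVDegree22.exists_charpoly_eq_minpoly_pow K hl hg φ hirr
    obtain rfl : P = P' := map_injective (Int.castRingHom ℤ_[l]) (RingHom.injective_int _) (hP.symm.trans hP')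
    refine ⟨_, _, hirr, Nat.pos_of_ne_zero fun h0 => ?_, hP'e⟩
    rw [h0, pow_zero] at hP'e
    have := minpoly_dvd_charpoly K hl φ hP
    rw [hP'e] at this
    exact hirr.not_isUnit (isUnit_of_dvd_one this)
  · rintro ⟨h, n, hh, hn, he⟩
    have hdvd := minpoly_dvd_charpoly K hl φ hP
    rw [he] at hdvd
    obtain ⟨j, -, hj⟩ := (dvd_prime_pow hh.prime _).1 hdvd
    have hj1 : j ≤ 1 := by
      by_contra hj2
      exact hh.not_isUnit (hsq h ((dvd_trans ⟨h ^ (j - 2), by rw [← pow_two, ← pow_add]; congr 1; omega⟩ hj.symm.dvd)))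
    rcases Nat.le_one_iff_eq_zero_or_eq_one.1 hj1 with rfl | rfl
    · exfalso
      -- then `1 = 0` in `End`, so the Tate module vanishes
      obtain ⟨-, Q, -, hQ, hQ0⟩ := AVDegree22.exists_int_minpoly φ
      obtain ⟨N, hN⟩ := roots_charpoly_subset_minpoly K φ hP
      rw [pow_zero] at hj
      have h1 : IsUnit (h ^ n) := by
        rw [← he]
        exact isUnit_of_dvd_unit hN ((associated_one_iff_isUnit.1 hj).pow N)
      exact hh.not_isUnit ((isUnit_pow_iff hn.ne').1 h1)
    · rw [pow_one] at hj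
      exact isField_of_irreducible_minpoly _ (hj.symm.irreducible hh)

end Groth.Agent.FrobPull22
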