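import Groth.Agent.Lib.FrobPull22.RootBounds

/-!
# The equality case of the bound `|trace| ≤ g ⌊2√q⌋`
-/

open Polynomial
open scoped ComplexConjugate

set_option linter.style.haveILetI false

namespace Groth.Agent.FrobPull22

/-- In the equality case all roots have the same real part. -/
theorem re_eq_of_extremal {P : ℤ[X]} {g q : ℕ} (hq : q ≠ 0) (hP : P.Monic) (hdeg : P.natDegree = 2 * g)
    (hroots : ∀ α ∈ (P.map (Int.castRingHom ℂ)).roots, ‖α‖ = Real.sqrt q) (e : ℤ) (he : e = 1 ∨ e = -1)
    (heq : (e : ℝ) * (P.nextCoeff : ℝ) = g * (⌊2 * Real.sqrt q⌋ : ℝ)) :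
    ∀ α ∈ (P.map (Int.castRingHom ℂ)).roots, 2 * α.re = -((e : ℝ) * (⌊2 * Real.sqrt q⌋ : ℝ)) := by
  set G := P.map (Int.castRingHom ℂ)
  set S := G.roots
  set m := ⌊2 * Real.sqrt q⌋
  have hG : G.Monic := hP.map _
  have hcard : S.card = 2 * g := by
    rw [← hdeg, ← hP.natDegree_map (Int.castRingHom ℂ), (IsAlgClosed.splits G).natDegree_eq_card_roots]
  have hsum : S.sum = -(P.nextCoeff : ℂ) := by
    rw [← eq_intCast (Int.castRingHom ℂ), ← nextCoeff_map (RingHom.injective_int _)]
    show S.sum = -G.nextCoeff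
    rw [(IsAlgClosed.splits G).nextCoeff_eq_neg_sum_roots_of_monic hG, neg_neg]
  have hre : (S.map Complex.re).sum = -(P.nextCoeff : ℝ) := by
    have := map_multiset_sum Complex.reLm.toAddMonoidHom S
    rw [hsum] at this
    simpa using this.symm
  let f : ℂ → ℝ := fun α => (m : ℝ) + 1 + 2 * e * α.re
  have hf : ∀ α ∈ S, 0 < f α := fun α hα => by
    have h1 : |α.re| ≤ Real.sqrt q := (Complex.abs_re_le_norm α).trans_eq (hroots α hα)
    have h2 := Int.lt_floor_add_one (2 * Real.sqrt q)
    have h3 : (2 * Real.sqrt q : ℝ) < (m : ℝ) + 1 := h2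
    rcases he with rfl | rfl <;> (simp only [f]; push_cast; nlinarith [abs_le.1 h1])
  have hroot : ∀ α ∈ S, IsIntegral ℤ α := fun α hα =>
    ⟨P, hP, by rw [← eval_map, algebraMap_int_eq]; exact (mem_roots'.1 hα).2⟩
  have hfint : ∀ α ∈ S, IsIntegral ℤ ((f α : ℝ) : ℂ) := fun α hα => by
    have hc : IsIntegral ℤ (conj α) := (hroot α hα).map (starRingEnd ℂ).toIntAlgHom
    have : ((f α : ℝ) : ℂ) = ((m + 1 : ℤ) : ℂ) + (e : ℂ) * (α + conj α) := by
      rw [Complex.add_conj]; simp only [f]; push_cast; ring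
    rw [this]
    exact (isIntegral_algebraMap (x := m + 1)).add ((isIntegral_algebraMap (x := e)).mul ((hroot α hα).add hc))
  obtain ⟨c, hc⟩ := exists_rat_prod_eval P hP (C e * X ^ 2 + C (m + 1) * X + C (e * q))
  obtain ⟨d, hd⟩ := exists_rat_prod_eval P hP X
  have hqc : ∀ α ∈ S, α * conj α = (q : ℂ) := fun α hα => by
    rw [Complex.mul_conj', hroots α hα, ← Complex.ofReal_pow, Real.sq_sqrt (Nat.cast_nonneg q)]
    simp
  have hmul : (d : ℂ) * (((S.map f).prod : ℝ) : ℂ) = c := by
    rw [hc, hd, show (((S.map f).prod : ℝ) : ℂ) = (S.map fun α => ((f α : ℝ) : ℂ)).prod by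
      rw [← Complex.ofRealHom_eq_coe, map_multiset_prod, Multiset.map_map]; rfl, ← Multiset.prod_map_mul]
    refine congrArg Multiset.prod (Multiset.map_congr rfl fun α hα => ?_)
    simp only [aeval_X, map_add, map_mul, aeval_C, map_pow, f]
    push_cast [algebraMap_int_eq, eq_intCast, Int.cast_add, Int.cast_mul, Int.cast_one, Int.cast_natCast]
    have h2 := Complex.add_conj α
    push_cast at h2
    linear_combination (e : ℂ) * hqc α hα - (e : ℂ) * α * h2
  have hd0 : (d : ℂ) ≠ 0 := by
    rw [hd, Ne, Multiset.prod_eq_zero_iff]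
    intro h
    obtain ⟨α, hα, h0⟩ := Multiset.mem_map.1 h
    rw [aeval_X] at h0
    have := hroots α hα
    rw [h0, norm_zero] at this
    exact (Real.sqrt_ne_zero'.2 (Nat.cast_pos.2 (Nat.pos_of_ne_zero hq))) this.symm
  have hprod : (((S.map f).prod : ℝ) : ℂ) = ((c / d : ℚ) : ℂ) := by
    rw [Rat.cast_div, eq_div_iff hd0, mul_comm, hmul]
  have hint : IsIntegral ℤ ((c / d : ℚ) : ℂ) := by
    rw [← hprod, ← Complex.ofRealHom_eq_coe, map_multiset_prod, Multiset.map_map]
    exact IsIntegral.multiset_prod fun x hx => by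
      obtain ⟨α, hα, rfl⟩ := Multiset.mem_map.1 hx
      exact hfint α hα
  obtain ⟨z, hz⟩ := IsIntegrallyClosed.isIntegral_iff.1
    ((isIntegral_algHom_iff (algebraMap ℚ ℂ).toIntAlgHom (algebraMap ℚ ℂ).injective).1 hint)
  have hz' : (S.map f).prod = (z : ℝ) := by
    have h1 : (((S.map f).prod : ℝ) : ℂ) = ((z : ℝ) : ℂ) := by
      rw [hprod, ← hz]; simp
    exact_mod_cast h1
  have hpos : 0 < (S.map f).prod := Multiset.prod_pos fun x hx => by
    obtain ⟨α, hα, rfl⟩ := Multiset.mem_map.1 hx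
    exact hf α hα
  have h1 : (1 : ℝ) ≤ (S.map f).prod := by
    rw [hz'] at hpos ⊢
    exact_mod_cast (Int.cast_pos.1 hpos)
  have h2 : (S.map fun α => f α - 1).sum = 0 := by
    have : (S.map fun α => f α - 1) = S.map fun α => (m : ℝ) + 2 * e * α.re :=
      Multiset.map_congr rfl fun α _ => by simp only [f]; ring
    rw [this, Multiset.sum_map_add, Multiset.map_const', Multiset.sum_replicate, hcard, nsmul_eq_mul,
      Multiset.sum_map_mul_left, hre]
    push_cast
    linear_combination -2 * heq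
  have hlog : 0 ≤ (S.map fun α => Real.log (f α)).sum := by
    refine (Real.log_nonneg h1).trans_eq ?_
    rw [Real.log_multiset_prod (fun x hx => by
      obtain ⟨α, hα, rfl⟩ := Multiset.mem_map.1 hx
      exact (hf α hα).ne'), Multiset.map_map]
    rfl
  intro α hα
  have hone : f α = 1 := by
    by_contra hne
    have hlt : (S.map fun β => Real.log (f β)).sum < (S.map fun β => f β - 1).sum :=
      Multiset.sum_lt_sum (fun β hβ => Real.log_le_sub_one_of_pos (hf β hβ))
        ⟨α, hα, Real.log_lt_sub_one_of_pos (hf α hα) hne⟩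
    linarith
  simp only [f] at hone
  rcases he with rfl | rfl <;> (push_cast at hone ⊢; linarith)

/-- In the equality case the polynomial is a power of a quadratic. -/
theorem eq_pow_of_extremal {P : ℤ[X]} {g q : ℕ} (hq : q ≠ 0) (hP : P.Monic) (hdeg : P.natDegree = 2 * g)
    (hroots : ∀ α ∈ (P.map (Int.castRingHom ℂ)).roots, ‖α‖ = Real.sqrt q) (e : ℤ) (he : e = 1 ∨ e = -1)
    (heq : (e : ℝ) * (P.nextCoeff : ℝ) = g * (⌊2 * Real.sqrt q⌋ : ℝ)) :
    P = (X ^ 2 + C (e * ⌊2 * Real.sqrt q⌋) * X + C (q : ℤ)) ^ g := by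
  set m := ⌊2 * Real.sqrt q⌋
  set h : ℤ[X] := X ^ 2 + C (e * m) * X + C (q : ℤ)
  have hre := re_eq_of_extremal hq hP hdeg hroots e he heq
  set G := P.map (Int.castRingHom ℂ)
  have hG : G.Monic := hP.map _
  have hcard : G.roots.card = 2 * g := by
    rw [← hdeg, ← hP.natDegree_map (Int.castRingHom ℂ), (IsAlgClosed.splits G).natDegree_eq_card_roots]
  have hsplit : G = (G.roots.map fun α => X - C α).prod := ((IsAlgClosed.splits G).eq_prod_roots_of_monic hG)
  have hconj : G.map (starRingEnd ℂ) = G := by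
    rw [Polynomial.map_map, RingHom.ext_int ((starRingEnd ℂ).comp (Int.castRingHom ℂ)) (Int.castRingHom ℂ)]
  have hsplit' : G = (G.roots.map fun α => X - C (conj α)).prod := by
    conv_lhs => rw [← hconj, hsplit, Polynomial.map_multiset_prod, Multiset.map_map]
    congr 1
    exact Multiset.map_congr rfl fun α _ => by simp
  have hquad : ∀ α ∈ G.roots, (X - C α) * (X - C (conj α)) = h.map (Int.castRingHom ℂ) := by
    intro α hα
    have h1 : α + conj α = ((-(e * m) : ℤ) : ℂ) := by
      rw [Complex.add_conj, show 2 * α.re = ((-(e * m) : ℤ) : ℝ) by push_cast; exact hre α hα,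
        Complex.ofReal_intCast]
    have h2 : α * conj α = (q : ℂ) := by
      rw [Complex.mul_conj', hroots α hα, ← Complex.ofReal_pow, Real.sq_sqrt (Nat.cast_nonneg q)]
      simp
    simp only [h, Polynomial.map_add, Polynomial.map_mul, Polynomial.map_pow, map_X, Polynomial.map_C]
    rw [show Int.castRingHom ℂ (e * m) = -(α + conj α) by rw [eq_intCast, h1]; push_cast; ring,
      show Int.castRingHom ℂ (q : ℤ) = α * conj α by rw [eq_intCast, h2]; simp]
    simp only [map_neg, map_add, map_mul]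
    ring
  have hsq : G * G = (h.map (Int.castRingHom ℂ)) ^ (2 * g) := by
    rw [(congrArg₂ (· * ·) hsplit hsplit' : G * G = _), ← Multiset.prod_map_mul, Multiset.map_congr rfl hquad, Multiset.map_const', Multiset.prod_replicate, hcard]
  have hZ : P * P = h ^ g * h ^ g := by
    refine Polynomial.map_injective (Int.castRingHom ℂ) (RingHom.injective_int _) ?_
    rw [Polynomial.map_mul, Polynomial.map_mul, Polynomial.map_pow, hsq, ← pow_add, two_mul]
  rcases mul_self_eq_mul_self_iff.1 hZ with h' | h'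
  · exact h'
  · exfalso
    have hh : h.Monic := by simp only [h]; monicity!
    have := congrArg leadingCoeff h'
    rw [hP.leadingCoeff, leadingCoeff_neg, (hh.pow g).leadingCoeff] at this
    omega

end Groth.Agent.FrobPull22
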