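import Groth.Agent.Lib.TateTors22.SepDeg
import Groth.Agent.Lib.AVDegree22.Count2
import Groth.Agent.Lib.Zeta25.FrobFix
import Mathlib.RingTheory.Etale.Field

/-!
# The fixed points of a power endomorphism form a finite étale scheme
-/

universe u

open CategoryTheory Limits AlgebraicGeometry TopologicalSpace

set_option linter.style.haveILetI false
set_option backward.isDefEq.respectTransparency false

namespace Groth.Agent.FrobPull22

/-- Powers of an endomorphism which is the `q`-th power on sections. -/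
theorem appLE_iterate {W : Scheme.{u}} (F : W ⟶ W) (hle : ∀ U : W.Opens, U ≤ F ⁻¹ᵁ U) {q : ℕ}
    (happ : ∀ (U : W.Opens) (s : Γ(W, U)), (F.appLE U U (hle U)).hom s = s ^ q) (pw : ℕ → (W ⟶ W))
    (h0 : pw 0 = 𝟙 W) (hs : ∀ n, pw (n + 1) = pw n ≫ F) (n : ℕ) :
    ∃ hle' : ∀ U : W.Opens, U ≤ pw n ⁻¹ᵁ U,
      ∀ (U : W.Opens) (s : Γ(W, U)), ((pw n).appLE U U (hle' U)).hom s = s ^ q ^ n := by
  induction n with
  | zero =>
    rw [h0]
    refine ⟨fun U => le_rfl, fun U s => ?_⟩
    simp only [Scheme.Hom.appLE, Scheme.Hom.id_app]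
    rw [pow_zero, pow_one]
    erw [W.presheaf.map_id]
    rfl
  | succ n ih =>
    obtain ⟨hn, happn⟩ := ih
    rw [hs]
    refine ⟨fun U => (hn U).trans ((pw n).preimage_mono (hle U)), fun U s => ?_⟩
    rw [← Scheme.Hom.appLE_comp_appLE (pw n) F U U U (hle U) (hn U)]
    show ((pw n).appLE U U (hn U)).hom ((F.appLE U U (hle U)).hom s) = _
    rw [happ, map_pow, happn, ← pow_mul, ← pow_succ]

/-- A closed subscheme on which a `q`-th power endomorphism is the identity is reduced. -/
theorem isReduced_of_fixed {W N : Scheme.{u}} (i : N ⟶ W) [IsClosedImmersion i] (F : W ⟶ W)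
    (hle : ∀ U : W.Opens, U ≤ F ⁻¹ᵁ U) {q : ℕ} (hq : 2 ≤ q)
    (happ : ∀ (U : W.Opens) (s : Γ(W, U)), (F.appLE U U (hle U)).hom s = s ^ q) (hi : i ≫ F = i) :
    IsReduced N := by
  haveI : ∀ z : N, _root_.IsReduced (N.presheaf.stalk z) := fun z => by
    refine ⟨fun a ha => ?_⟩
    obtain ⟨b, rfl⟩ := i.stalkMap_surjective z a
    obtain ⟨U, hzU, s, rfl⟩ := W.presheaf.exists_germ_eq b
    have hfix : (i.app U).hom s ^ q = (i.app U).hom s := by
      rw [← map_pow, ← happ]
      have h1 : F.appLE U U (hle U) ≫ i.appLE U (i ⁻¹ᵁ U) le_rfl = i.appLE U (i ⁻¹ᵁ U) le_rfl := by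
        rw [Scheme.Hom.appLE_comp_appLE]
        simp only [hi]
      have h2 := ConcreteCategory.congr_hom h1 s
      rw [Scheme.Hom.appLE_eq_app] at h2
      exact h2
    have hfix' : (i.stalkMap z).hom (W.presheaf.germ U (i z) hzU s) ^ q =
        (i.stalkMap z).hom (W.presheaf.germ U (i z) hzU s) := by
      rw [Scheme.Hom.germ_stalkMap_apply, ← map_pow, hfix]
    obtain ⟨m, hm⟩ := ha
    have hall : ∀ j : ℕ, (i.stalkMap z).hom (W.presheaf.germ U (i z) hzU s) ^ q ^ j =
        (i.stalkMap z).hom (W.presheaf.germ U (i z) hzU s) := fun j => by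
      induction j with
      | zero => rw [pow_zero, pow_one]
      | succ j ih => rw [pow_succ, pow_mul, ih, hfix']
    exact (hall m).symm.trans (pow_eq_zero_of_le (Nat.lt_pow_self (by omega)).le hm)
  exact isReduced_of_isReduced_stalk N

/-- A reduced finite scheme over a perfect field is étale. -/
theorem etale_of_isReduced {k : Type u} [Field k] [PerfectField k] {N : Over (Spec (CommRingCat.of k))}
    [IsFinite N.hom] [IsReduced N.left] : Etale N.hom := by
  haveI : IsAffine N.left := isAffine_of_isAffineHom N.hom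
  let R := Γ(N.left, ⊤)
  let φ : CommRingCat.of k ⟶ R := Spec.preimage (N.left.isoSpec.inv ≫ N.hom)
  have hφ : Spec.map φ = N.left.isoSpec.inv ≫ N.hom := Spec.map_preimage _
  letI : Algebra k R := φ.hom.toAlgebra
  have hfin : IsFinite (Spec.map φ) := by rw [hφ]; infer_instance
  rw [IsFinite.SpecMap_iff] at hfin
  haveI : Module.Finite k R := hfin
  haveI : Algebra.Etale k R := by
    haveI : Algebra.EssFiniteType k R := inferInstance
    haveI : IsArtinianRing R := IsArtinianRing.of_finite k R
    let e := IsArtinianRing.equivPi R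
    haveI : ∀ I : MaximalSpectrum R, Algebra.IsSeparable k (R ⧸ I.asIdeal) := fun I => by
      letI : Field (R ⧸ I.asIdeal) := Ideal.Quotient.field I.asIdeal
      haveI : Algebra.IsAlgebraic k (R ⧸ I.asIdeal) := Algebra.IsAlgebraic.of_finite k _
      infer_instance
    haveI : Algebra.FormallyEtale k R := by
      rw [Algebra.FormallyEtale.iff_of_equiv (e.restrictScalars k)]
      rw [Algebra.FormallyEtale.pi_iff]
      intro I
      letI : Field (R ⧸ I.asIdeal) := Ideal.Quotient.field I.asIdeal
      exact Algebra.FormallyEtale.of_isSeparable k _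
    exact ⟨inferInstance, Algebra.FinitePresentation.of_finiteType.1 inferInstance⟩
  have het : Etale (Spec.map φ) := by
    rw [HasRingHomProperty.Spec_iff (P := @Etale)]
    exact RingHom.etale_algebraMap.2 this
  rw [show N.hom = N.left.isoSpec.hom ≫ Spec.map φ by rw [hφ, Iso.hom_inv_id_assoc]]
  infer_instance

/-- Points in a field containing all elements fixed by the `q`-th power. -/
theorem card_points_eq_of_fixed {k : Type u} [Field k] (N : Over (Spec (CommRingCat.of k))) [IsAffine N.left]
    (K L : Type u) [Field K] [Algebra k K] [Field L] [Algebra k L] (ι' : K →ₐ[k] L) {q : ℕ}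
    (hN : ∀ s : Γ(N.left, ⊤), s ^ q = s) (hL : ∀ c : L, c ^ q = c → c ∈ Set.range ι') :
    Nat.card (Over.mk (Spec.map (CommRingCat.ofHom (algebraMap k K))) ⟶ N) =
      Nat.card (Over.mk (Spec.map (CommRingCat.ofHom (algebraMap k L))) ⟶ N) := by
  let s : Over.mk (Spec.map (CommRingCat.ofHom (algebraMap k L))) ⟶
      Over.mk (Spec.map (CommRingCat.ofHom (algebraMap k K))) :=
    Over.homMk (Spec.map (CommRingCat.ofHom ι'.toRingHom)) (by
      show Spec.map _ ≫ Spec.map (CommRingCat.ofHom (algebraMap k K)) = Spec.map _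
      rw [← Spec.map_comp, ← CommRingCat.ofHom_comp, AlgHom.toRingHom_eq_coe, AlgHom.comp_algebraMap])
  refine Nat.card_congr (Equiv.ofBijective (fun y => s ≫ y) ⟨fun y y' h => ?_, fun z => ?_⟩)
  · have h1 := congrArg (fun y => Spec.preimage (y.left ≫ N.left.isoSpec.hom)) h
    simp only [Over.comp_left, s, Over.homMk_left, Category.assoc] at h1
    rw [← Spec.map_preimage (y.left ≫ N.left.isoSpec.hom), ← Spec.map_preimage (y'.left ≫ N.left.isoSpec.hom),
      ← Spec.map_comp, ← Spec.map_comp, Spec.preimage_map, Spec.preimage_map] at h1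
    ext1
    refine (cancel_mono N.left.isoSpec.hom).1 ?_
    rw [← Spec.map_preimage (y.left ≫ _), ← Spec.map_preimage (y'.left ≫ _)]
    congr 1
    ext r
    exact ι'.injective (ConcreteCategory.congr_hom h1 r)
  · let φ := Spec.preimage (z.left ≫ N.left.isoSpec.hom)
    have hr : ∀ r, φ.hom r ∈ ι'.toRingHom.range := fun r => hL _ (by rw [← map_pow, hN])
    let e := RingEquiv.ofBijective ι'.toRingHom.rangeRestrict
      ⟨fun a b h => ι'.injective (congrArg Subtype.val h), ι'.toRingHom.rangeRestrict_surjective⟩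
    let ψ : Γ(N.left, ⊤) ⟶ CommRingCat.of K :=
      CommRingCat.ofHom (e.symm.toRingHom.comp (φ.hom.codRestrict ι'.toRingHom.range hr))
    have hψ : ψ ≫ CommRingCat.ofHom ι'.toRingHom = φ := by
      ext r
      exact congrArg Subtype.val (e.apply_symm_apply ⟨φ.hom r, hr r⟩)
    have hleft : Spec.map (CommRingCat.ofHom ι'.toRingHom) ≫ Spec.map ψ ≫ N.left.isoSpec.inv = z.left := by
      rw [← Category.assoc, ← Spec.map_comp, hψ, Spec.map_preimage, Category.assoc, Iso.hom_inv_id, Category.comp_id]
    haveI : Epi (Spec.map (CommRingCat.ofHom ι'.toRingHom)) := by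
      haveI : Surjective (Spec.map (CommRingCat.ofHom ι'.toRingHom)) :=
        ⟨fun x => ⟨IsLocalRing.closedPoint L, Subsingleton.elim (α := Spec (CommRingCat.of K)) _ _⟩⟩
      haveI : Flat (Spec.map (CommRingCat.ofHom ι'.toRingHom)) := by
        rw [Flat.SpecMap_iff]
        letI := ι'.toRingHom.toAlgebra
        exact inferInstanceAs (Module.Flat K L)
      exact Flat.epi_of_flat_of_surjective _
    refine ⟨Over.homMk (Spec.map ψ ≫ N.left.isoSpec.inv) ?_, ?_⟩
    · refine (cancel_epi (Spec.map (CommRingCat.ofHom ι'.toRingHom))).1 ?_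
      rw [← Category.assoc, hleft]
      exact (Over.w z).trans (Over.w s).symm
    · ext1
      exact hleft

end Groth.Agent.FrobPull22
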