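import Groth.Agent.Lib.FrobPull22.Similitude
import Mathlib.LinearAlgebra.BilinearForm.TensorProduct
import Mathlib.RingTheory.TensorProduct.Finite

/-!
# Similitudes by left multiplication in a rationalised ring
-/

open Polynomial TensorProduct

set_option linter.style.haveILetI false
set_option backward.isDefEq.respectTransparency false

namespace Groth.Agent.FrobPull22

variable {E : Type*} [Ring E]

theorem exists_nat_smul_eq_one_tmul (x : ℚ ⊗[ℤ] E) : ∃ n : ℕ, n ≠ 0 ∧ ∃ h : E, (n : ℚ) • x = (1 : ℚ) ⊗ₜ h := by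
  induction x using TensorProduct.induction_on with
  | zero => exact ⟨1, one_ne_zero, 0, by rw [smul_zero, tmul_zero]⟩
  | tmul a h =>
    refine ⟨a.den, a.den_nz, a.num • h, ?_⟩
    rw [smul_tmul', smul_eq_mul, mul_comm, Rat.mul_den_eq_num, ← smul_tmul, zsmul_eq_mul, mul_one]
  | add x y hx hy =>
    obtain ⟨n, hn, h, e⟩ := hx
    obtain ⟨m, hm, h', e'⟩ := hy
    refine ⟨n * m, mul_ne_zero hn hm, (m : ℤ) • h + (n : ℤ) • h', ?_⟩
    have hx : ∀ (j : ℕ) (z : E), (1 : ℚ) ⊗ₜ[ℤ] ((j : ℤ) • z) = (j : ℚ) • ((1 : ℚ) ⊗ₜ[ℤ] z) := fun j z => by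
      rw [← smul_tmul, smul_tmul', smul_eq_mul, zsmul_eq_mul, mul_one, mul_one, Int.cast_natCast]
    rw [tmul_add, hx, hx, ← e, ← e', Nat.cast_mul, smul_add, smul_smul, smul_smul, mul_comm (m : ℚ)]

variable [Module.Finite ℤ E]

/-- An element which acts on the left as a similitude of a positive definite form. -/
theorem minpoly_of_similitude (a : E) (b : LinearMap.BilinForm ℤ E) (hsym : ∀ x y, b x y = b y x)
    (hpos : ∀ x, x ≠ 0 → 0 < b x x) {q : ℕ} (hq : q ≠ 0) (hR : ∀ x y, b (a * x) (a * y) = (q : ℤ) * b x y) :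
    Squarefree (minpoly ℚ ((1 : ℚ) ⊗ₜ[ℤ] a)) ∧
      ∀ α : ℂ, ((minpoly ℚ ((1 : ℚ) ⊗ₜ[ℤ] a)).map (algebraMap ℚ ℂ)).IsRoot α → ‖α‖ = Real.sqrt q := by
  let B : LinearMap.BilinForm ℚ (ℚ ⊗[ℤ] E) := LinearMap.BilinForm.baseChange ℚ b
  let R : Module.End ℚ (ℚ ⊗[ℤ] E) := Algebra.lmul ℚ (ℚ ⊗[ℤ] E) ((1 : ℚ) ⊗ₜ a)
  have hmin : minpoly ℚ R = minpoly ℚ ((1 : ℚ) ⊗ₜ[ℤ] a) :=
    minpoly.algHom_eq _ Algebra.lmul_injective _
  have hB : ∀ (c d : ℚ) (x y : E), B (c ⊗ₜ x) (d ⊗ₜ y) = c * d * (b x y : ℚ) := fun c d x y => by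
    simp only [B, LinearMap.BilinForm.baseChange_tmul, zsmul_eq_mul]
    ring
  have hscale : ∀ (x : ℚ ⊗[ℤ] E) (n : ℕ) (h : E), (n : ℚ) • x = (1 : ℚ) ⊗ₜ h →
      (n : ℚ) * n * B x x = (b h h : ℚ) := fun x n h e => by
    have h1 := hB 1 1 h h
    rw [← e, map_smul, map_smul, LinearMap.smul_apply, smul_eq_mul, smul_eq_mul, one_mul, one_mul] at h1
    rw [← h1, mul_assoc]
  have hBpos : ∀ x, x ≠ 0 → 0 < B x x := fun x hx => by
    obtain ⟨n, hn, h, e⟩ := exists_nat_smul_eq_one_tmul x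
    have hn' : (n : ℚ) ≠ 0 := Nat.cast_ne_zero.2 hn
    have hh : h ≠ 0 := fun h0 => hx (by
      rw [h0, tmul_zero, smul_eq_zero] at e
      exact e.resolve_left hn')
    have := hscale x n h e
    have hb : (0 : ℚ) < (b h h : ℚ) := Int.cast_pos.2 (hpos h hh)
    rw [← this] at hb
    exact (mul_pos_iff_of_pos_left (mul_pos (by positivity) (by positivity))).1 hb
  have hBR : ∀ x y, B (R x) (R y) = (q : ℚ) * B x y := fun x y => by
    induction x using TensorProduct.induction_on with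
    | zero => simp
    | add x₁ x₂ h₁ h₂ => simp only [map_add, LinearMap.add_apply, h₁, h₂, mul_add]
    | tmul c h =>
      induction y using TensorProduct.induction_on with
      | zero => simp
      | add y₁ y₂ h₁ h₂ => simp only [map_add, h₁, h₂, mul_add]
      | tmul d h' =>
        simp only [R, Algebra.lmul, Algebra.coe_lmul_eq_mul, LinearMap.mul_apply',
          Algebra.TensorProduct.tmul_mul_tmul, one_mul, hB, hR]
        push_cast
        ring
  have hBsym : ∀ x y, B x y = B y x := fun x y => by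
    induction x using TensorProduct.induction_on with
    | zero => simp
    | add x₁ x₂ h₁ h₂ => simp only [map_add, LinearMap.add_apply, h₁, h₂]
    | tmul c h =>
      induction y using TensorProduct.induction_on with
      | zero => simp
      | add y₁ y₂ h₁ h₂ => simp only [map_add, LinearMap.add_apply, h₁, h₂]
      | tmul d h' => rw [hB, hB, hsym]; ring
  rw [← hmin]
  refine ⟨squarefree_minpoly_of_similitude B R hBsym hBpos (Nat.cast_ne_zero.2 hq) hBR, fun α hα => ?_⟩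
  simpa using norm_root_of_similitude B R hBsym hBpos (Nat.cast_nonneg q) hBR hα

end Groth.Agent.FrobPull22
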