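import Groth.Agent.Lib.FrobPull22.Form
import Groth.Agent.Lib.FrobPull22.RatForm
import Groth.Prelude.Def_EndRing

/-!
# The minimal polynomial of the Frobenius endomorphism
-/

universe u

open CategoryTheory Limits AlgebraicGeometry MonoidalCategory CartesianMonoidalCategory MonObj

set_option linter.style.haveILetI false
set_option backward.isDefEq.respectTransparency false

namespace Groth.Agent.FrobPull22

variable {k : Type u} [Field k] {A : Over (Spec (CommRingCat.of k))}
  [GrpObj A] [IsCommMonObj A] [IsProper A.hom] [GeometricallyIntegral A.hom]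

/-- The minimal polynomial of a `q`-th power endomorphism is squarefree with roots of absolute value `√q`. -/
theorem minpoly_frobenius (π : A ⟶ A) [IsMonHom π] (hle : ∀ U : A.left.Opens, U ≤ π.left ⁻¹ᵁ U) {q : ℕ} (hq : q ≠ 0)
    (happ : ∀ (U : A.left.Opens) (s : Γ(A.left, U)), (π.left.appLE U U (hle U)).hom s = s ^ q) :
    Squarefree (minpoly ℚ (EndAV.toEnd0 (EndAV.End.of π))) ∧
      ∀ α : ℂ, ((minpoly ℚ (EndAV.toEnd0 (EndAV.End.of π))).map (algebraMap ℚ ℂ)).IsRoot α →
        ‖α‖ = Real.sqrt q := by
  haveI : Module.Finite ℤ (EndAV.End A) := TateTors22.finite_hom (A := A) (B := A)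
  obtain ⟨b, hsym, hpos, hR⟩ := exists_form_similitude π hle happ
  exact minpoly_of_similitude (E := EndAV.End A) (EndAV.End.of π) b hsym hpos hq hR

end Groth.Agent.FrobPull22
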