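import Mathlib.Algebra.BigOperators.Ring.Finset
import Mathlib.Algebra.BigOperators.Group.Finset.Powerset
import Mathlib.Analysis.Complex.Polynomial.Basic
import Mathlib.Data.Nat.Choose.Sum
import Mathlib.Algebra.Ring.NegOnePow

/-!
# The functional equation of an alternating product
-/

open Polynomial

set_option linter.style.haveILetI false

namespace Groth.Agent.FrobPull22

theorem zpow_prod_eq_one {K : Type*} [Field K] {ι : Type*} [Fintype ι] [DecidableEq ι] (a : ι → K)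
    (ha : ∀ i, a i ≠ 0) (c : K) (hc : c ≠ 0) (h2 : 2 ≤ Fintype.card ι) :
    ∏ S : Finset ι, (c * ∏ i ∈ S, a i) ^ ((-1 : ℤ) ^ (S.card + 1)) = 1 := by
  obtain ⟨i₀⟩ : Nonempty ι := Fintype.card_pos_iff.1 (by omega)
  have hi₀ : i₀ ∉ Finset.univ.erase i₀ := Finset.notMem_erase _ _
  rw [show (Finset.univ : Finset (Finset ι)) = (insert i₀ (Finset.univ.erase i₀)).powerset by
    rw [Finset.insert_erase (Finset.mem_univ _), Finset.powerset_univ], Finset.prod_powerset_insert hi₀,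
    ← Finset.prod_mul_distrib]
  have hkey : ∀ S ∈ (Finset.univ.erase i₀).powerset, (c * ∏ i ∈ S, a i) ^ ((-1 : ℤ) ^ (S.card + 1)) *
      (c * ∏ i ∈ insert i₀ S, a i) ^ ((-1 : ℤ) ^ ((insert i₀ S).card + 1)) = a i₀ ^ ((-1 : ℤ) ^ S.card) := fun S hS => by
    have hS' : i₀ ∉ S := fun h => hi₀ (Finset.mem_powerset.1 hS h)
    have h0 : c * ∏ i ∈ S, a i ≠ 0 := mul_ne_zero hc (Finset.prod_ne_zero_iff.2 fun i _ => ha i)
    rw [Finset.prod_insert hS', Finset.card_insert_of_notMem hS', mul_left_comm c, mul_zpow (a i₀),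
      mul_comm (a i₀ ^ _), ← mul_assoc, ← zpow_add₀ h0]
    simp [pow_succ]
  rw [Finset.prod_congr rfl hkey]
  rw [← zpow_sum₀ (ha i₀), Finset.sum_powerset_neg_one_pow_card_of_nonempty, zpow_zero]
  rw [← Finset.card_pos, Finset.card_erase_of_mem (Finset.mem_univ _), Finset.card_univ]
  omega
where
  zpow_sum₀ {x : K} (hx : x ≠ 0) {s : Finset (Finset ι)} {f : Finset ι → ℤ} : x ^ (∑ S ∈ s, f S) = ∏ S ∈ s, x ^ f S := by
    induction s using Finset.induction_on with
    | empty => simp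
    | insert S s hS ih => rw [Finset.sum_insert hS, Finset.prod_insert hS, zpow_add₀ hx, ih]

/-- The functional equation: the substitution `t ↦ 1 / (Q t)`, `Q` the product of all parameters. -/
theorem functional_eq (R : Multiset ℂ) {g : ℕ} (hg : 1 ≤ g) (hcard : R.card = 2 * g) {Q : ℂ} (hQ : R.prod = Q)
    (hQ0 : Q ≠ 0) (t : ℂ) (ht : t ≠ 0) :
    ∏ j ∈ Finset.range (2 * g + 1), (Polynomial.eval ((Q * t)⁻¹) (((R.powersetCard j).map
          (fun I => (1 : ℂ[X]) - C I.prod * X)).prod)) ^ ((-1 : ℤ) ^ (j + 1)) =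
      ∏ j ∈ Finset.range (2 * g + 1), (Polynomial.eval t (((R.powersetCard j).map
          (fun I => (1 : ℂ[X]) - C I.prod * X)).prod)) ^ ((-1 : ℤ) ^ (j + 1)) := by
  classical
  obtain ⟨a, ha⟩ : ∃ a : Fin (2 * g) → ℂ, (Finset.univ : Finset (Fin (2 * g))).val.map a = R := by
    refine ⟨fun i => R.toList[i.1]'(by rw [Multiset.length_toList, hcard]; exact i.2), ?_⟩
    rw [Fin.univ_val_map]
    conv_rhs => rw [← Multiset.coe_toList R]
    congr 1
    exact List.ext_getElem (by simp [hcard]) fun i h1 h2 => by simp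
  subst ha
  have hall : ∀ s : ℂ, ∏ j ∈ Finset.range (2 * g + 1), (Polynomial.eval s ((((Finset.univ.val.map a).powersetCard j).map
      (fun I => (1 : ℂ[X]) - C I.prod * X)).prod)) ^ ((-1 : ℤ) ^ (j + 1)) =
      ∏ S : Finset (Fin (2 * g)), (1 - (∏ i ∈ S, a i) * s) ^ ((-1 : ℤ) ^ (S.card + 1)) := fun s => by
    rw [← Finset.powerset_univ, Finset.prod_powerset, Finset.card_univ, Fintype.card_fin]
    refine Finset.prod_congr rfl fun j _ => ?_
    rw [Finset.prod_congr rfl (g := fun S => (1 - (∏ i ∈ S, a i) * s) ^ ((-1 : ℤ) ^ (j + 1)))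
      fun S hS => by rw [(Finset.mem_powersetCard.1 hS).2], Finset.prod_zpow, Multiset.powersetCard_map,
      ← Finset.map_val_val_powersetCard, Multiset.map_map, Multiset.map_map, Polynomial.eval_multiset_prod,
      Multiset.map_map]
    congr 1
    rw [Finset.prod_eq_multiset_prod]
    refine congrArg Multiset.prod (Multiset.map_congr rfl fun S _ => ?_)
    simp only [Function.comp_apply, Polynomial.eval_sub, Polynomial.eval_one, Polynomial.eval_mul, Polynomial.eval_C, Polynomial.eval_X]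
    rfl
  rw [hall, hall]
  have hprod : ∏ i, a i = Q := by rw [← hQ]; rfl
  have ha0 : ∀ i, a i ≠ 0 := fun i h => hQ0 (by rw [← hprod]; exact Finset.prod_eq_zero (Finset.mem_univ i) h)
  have hfac : ∀ S : Finset (Fin (2 * g)), (1 - (∏ i ∈ S, a i) * (Q * t)⁻¹) =
      ((-(Q * t)⁻¹) * ∏ i ∈ S, a i) * (1 - (∏ i ∈ Sᶜ, a i) * t) := fun S => by
    have h := Finset.prod_mul_prod_compl S a
    rw [hprod] at h
    have hQt : (Q * t) * (Q * t)⁻¹ = 1 := mul_inv_cancel₀ (mul_ne_zero hQ0 ht)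
    linear_combination -hQt - (Q * t)⁻¹ * t * h
  simp only [hfac, mul_zpow, Finset.prod_mul_distrib]
  have h1 : ∏ S : Finset (Fin (2 * g)), ((-(Q * t)⁻¹) * ∏ i ∈ S, a i) ^ ((-1 : ℤ) ^ (S.card + 1)) = 1 :=
    zpow_prod_eq_one a ha0 _ (neg_ne_zero.2 (inv_ne_zero (mul_ne_zero hQ0 ht))) (by simp; omega)
  rw [Finset.prod_congr rfl (fun S _ => mul_zpow (-(Q * t)⁻¹) (∏ i ∈ S, a i) _), Finset.prod_mul_distrib] at h1
  rw [h1, one_mul]
  refine Finset.prod_nbij' (fun S => Sᶜ) (fun S => Sᶜ) (by simp) (by simp) (by simp) (by simp) fun S _ => ?_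
  congr 1
  rw [Finset.card_compl, Fintype.card_fin, neg_one_pow_eq_pow_mod_two, neg_one_pow_eq_pow_mod_two (n := 2 * g - _ + 1)]
  congr 1
  have := Finset.card_le_univ S
  rw [Fintype.card_fin] at this
  omega

end Groth.Agent.FrobPull22
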