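import Mathlib.LinearAlgebra.QuadraticForm.Basic
import Mathlib.LinearAlgebra.Matrix.Charpoly.Minpoly
import Mathlib.LinearAlgebra.Matrix.ToLinearEquiv
import Mathlib.LinearAlgebra.Charpoly.ToMatrix
import Mathlib.Analysis.Complex.Polynomial.Basic

/-!
# Similitudes of positive definite rational forms
-/

open Polynomial
open scoped ComplexConjugate

set_option linter.style.haveILetI false

namespace Groth.Agent.FrobPull22

variable {V : Type*} [AddCommGroup V] [Module ℚ V] [FiniteDimensional ℚ V]
  (B : LinearMap.BilinForm ℚ V) (R : Module.End ℚ V) {q : ℚ}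

/-- The minimal polynomial of a similitude is squarefree. -/
theorem squarefree_minpoly_of_similitude (hsym : ∀ x y, B x y = B y x) (hpos : ∀ x, x ≠ 0 → 0 < B x x) (hq : q ≠ 0)
    (hR : ∀ x y, B (R x) (R y) = q * B x y) : Squarefree (minpoly ℚ R) := by
  have hdef : ∀ x, B x x = 0 → x = 0 := fun x h => by
    by_contra hx
    exact (hpos x hx).ne' h
  have hinj : Function.Injective R := (injective_iff_map_eq_zero _).2 fun x hx => hdef x (by
    have := hR x x
    rw [hx, map_zero, eq_comm, mul_eq_zero] at this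
    exact this.resolve_left hq)
  let e := LinearEquiv.ofInjectiveEndo R hinj
  let S : Module.End ℚ V := q • (e.symm : V →ₗ[ℚ] V)
  have hRS : R * S = algebraMap ℚ _ q := by
    ext x
    show R (q • e.symm x) = q • x
    rw [map_smul, show R (e.symm x) = x from e.apply_symm_apply x]
  have hSR : S * R = algebraMap ℚ _ q := by
    ext x
    show q • e.symm (R x) = q • x
    rw [show e.symm (R x) = x from e.symm_apply_apply x]
  have hadj : ∀ x y, B (R x) y = B x (S y) := fun x y => by
    have h1 : R (S y) = q • y := LinearMap.congr_fun hRS y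
    have h2 := hR x (S y)
    rw [h1, map_smul, smul_eq_mul] at h2
    exact mul_left_cancel₀ hq h2
  have haux : ∀ {a b : Module.End ℚ V}, Commute a b → ∀ f : ℚ[X], Commute a (aeval b f) := fun {a b} h f => by
    induction f using Polynomial.induction_on with
    | C c => rw [aeval_C]; exact Algebra.commute_algebraMap_right c a
    | add f g hf hg => rw [map_add]; exact hf.add_right hg
    | monomial n c _ =>
      rw [map_mul, aeval_C, map_pow, aeval_X]
      exact (Algebra.commute_algebraMap_right c a).mul_right (h.pow_right _)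
  have hpol : ∀ (f : ℚ[X]) x y, B (aeval R f x) y = B x (aeval S f y) := fun f => by
    induction f using Polynomial.induction_on with
    | C a => intro x y; simp [Algebra.algebraMap_eq_smul_one]
    | add f g hf hg => intro x y; simp [hf x y, hg x y]
    | monomial n a ih =>
      intro x y
      rw [pow_succ, ← mul_assoc, map_mul (aeval R) (C a * X ^ n), map_mul (aeval S) (C a * X ^ n), aeval_X, aeval_X]
      show B (aeval R (C a * X ^ n) (R x)) y = _
      rw [ih, hadj]
      show _ = B x (aeval S (C a * X ^ n) (S y))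
      rw [← Module.End.mul_apply, ← Module.End.mul_apply, ← show S * aeval S (C a * X ^ n) =
        aeval S (C a * X ^ n) * S from (haux (Commute.refl S) _).eq]
  have hint := Algebra.IsIntegral.isIntegral (R := ℚ) R
  intro p hp
  obtain ⟨r, hr⟩ := hp
  have hm : minpoly ℚ R ≠ 0 := minpoly.ne_zero hint
  have hp0 : p ≠ 0 := fun h => hm (by rw [hr, h, zero_mul, zero_mul])
  have hr0 : r ≠ 0 := fun h => hm (by rw [hr, h, mul_zero])
  by_contra hpu
  set N := aeval R (p * r)
  set N' := aeval S (p * r)
  have hN2 : N * N = 0 := by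
    rw [← map_mul, show p * r * (p * r) = minpoly ℚ R * r by rw [hr]; ring, map_mul, minpoly.aeval, zero_mul]
  have hc : Commute N' N := by
    have h1 : Commute S R := hSR.trans hRS.symm
    exact (haux (haux h1 _).symm _).symm
  have hsq : (N' * N) * (N' * N) = 0 := by
    rw [hc.symm.mul_mul_mul_comm, hN2, mul_zero]
  have hK : N' * N = 0 := by
    ext x
    refine hdef _ ?_
    have h3 : ∀ y, B (N y) ((N' * N) x) = B y ((N' * (N' * N)) x) := fun y => hpol _ _ _
    have h4 : ∀ (f : ℚ[X]) x y, B x (aeval R f y) = B (aeval S f x) y := fun f x y => by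
      rw [hsym, hpol, hsym]
    rw [show B ((N' * N) x) ((N' * N) x) = B (N x) (N ((N' * N) x)) from (h4 _ (N x) _).symm,
      hpol, ← Module.End.mul_apply, ← Module.End.mul_apply, hsq, LinearMap.zero_apply, map_zero]
  have hN : N = 0 := by
    ext x
    refine hdef _ ?_
    rw [hpol, ← Module.End.mul_apply, hK, LinearMap.zero_apply, map_zero]
  have hdeg := natDegree_le_of_dvd (minpoly.dvd ℚ R hN) (mul_ne_zero hp0 hr0)
  have hd : 0 < p.natDegree := natDegree_pos_iff_degree_pos.2 (degree_pos_of_ne_zero_of_nonunit hp0 hpu)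
  rw [hr, natDegree_mul (mul_ne_zero hp0 hp0) hr0, natDegree_mul hp0 hp0, natDegree_mul hp0 hr0] at hdeg
  omega

/-- The complex eigenvalues of a similitude of factor `q` have absolute value `√q`. -/
theorem norm_root_of_similitude (hsym : ∀ x y, B x y = B y x) (hpos : ∀ x, x ≠ 0 → 0 < B x x) (hq : 0 ≤ q)
    (hR : ∀ x y, B (R x) (R y) = q * B x y) {α : ℂ}
    (hα : ((minpoly ℚ R).map (algebraMap ℚ ℂ)).IsRoot α) : ‖α‖ = Real.sqrt q := by
  classical
  obtain ⟨b, hb⟩ := LinearMap.BilinForm.exists_orthogonal_basis (B := B) ⟨hsym⟩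
  rw [LinearMap.isOrthoᵢ_def] at hb
  let M := LinearMap.toMatrix b b R
  let d : Fin (Module.finrank ℚ V) → ℚ := fun i => B (b i) (b i)
  have hd : ∀ i, 0 < d i := fun i => hpos _ (b.ne_zero i)
  have hBb : ∀ i j, B (b i) (b j) = if i = j then d i else 0 := fun i j => by
    split_ifs with h
    · subst h; rfl
    · exact hb i j h
  have hM : ∀ i j, ∑ l, d l * (M l i * M l j) = if i = j then q * d i else 0 := fun i j => by
    have h := hR (b i) (b j)
    have hRi : ∀ i, R (b i) = ∑ l, M l i • b l := fun i => by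
      conv_lhs => rw [← b.sum_repr (R (b i))]
      exact Finset.sum_congr rfl fun l _ => by simp [M, LinearMap.toMatrix_apply]
    rw [hBb, mul_ite, mul_zero, hRi, hRi] at h
    simp only [map_sum, LinearMap.sum_apply, map_smul, LinearMap.smul_apply, smul_eq_mul, hBb] at h
    rw [← h]
    refine Finset.sum_congr rfl fun l _ => ?_
    simp [mul_comm, mul_assoc, mul_left_comm]
  have hroot : (M.map (algebraMap ℚ ℂ)).charpoly.IsRoot α := by
    refine hα.dvd ?_
    rw [Matrix.charpoly_map, show M.charpoly = R.charpoly from LinearMap.charpoly_toMatrix R b]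
    exact Polynomial.map_dvd _ (LinearMap.minpoly_dvd_charpoly R)
  rw [IsRoot, Matrix.eval_charpoly, ← Matrix.exists_mulVec_eq_zero_iff] at hroot
  obtain ⟨v, hv, hMv⟩ := hroot
  have hev : ∀ l, ∑ i, (M l i : ℂ) * v i = α * v l := fun l => by
    have h := congrFun hMv l
    rw [Matrix.sub_mulVec, Pi.sub_apply, Pi.zero_apply, sub_eq_zero] at h
    simpa [Matrix.mulVec, dotProduct, Matrix.scalar_apply, Matrix.diagonal_apply, eq_comm] using h.symm
  have key : ((q : ℂ) - conj α * α) * ∑ l, (d l : ℂ) * (conj (v l) * v l) = 0 := by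
    rw [sub_mul, sub_eq_zero]
    have h1 : ∑ l, (d l : ℂ) * (conj (α * v l) * (α * v l)) = conj α * α * ∑ l, (d l : ℂ) * (conj (v l) * v l) := by
      rw [Finset.mul_sum]
      exact Finset.sum_congr rfl fun l _ => by rw [map_mul]; ring
    rw [← h1]
    have hM' : ∀ i j, ∑ l, (d l : ℂ) * ((M l i : ℂ) * (M l j : ℂ)) = if i = j then (q : ℂ) * (d i : ℂ) else 0 :=
      fun i j => by
        have := congrArg (fun x : ℚ => (x : ℂ)) (hM i j)
        split_ifs at this ⊢ with hij <;> push_cast at this <;> exact this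
    calc (q : ℂ) * ∑ i, (d i : ℂ) * (conj (v i) * v i)
        = ∑ i, ∑ j, (∑ l, (d l : ℂ) * ((M l i : ℂ) * (M l j : ℂ))) * (conj (v i) * v j) := by
          simp only [hM', ite_mul, zero_mul, Finset.sum_ite_eq, Finset.mem_univ, if_true, Finset.mul_sum, mul_assoc]
      _ = ∑ i, ∑ j, ∑ l, (d l : ℂ) * ((M l i : ℂ) * (M l j : ℂ)) * (conj (v i) * v j) := by
          simp only [Finset.sum_mul]
      _ = ∑ l, ∑ i, ∑ j, (d l : ℂ) * ((M l i : ℂ) * (M l j : ℂ)) * (conj (v i) * v j) :=
          (Finset.sum_congr rfl fun i _ => Finset.sum_comm).trans Finset.sum_comm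
      _ = _ := Finset.sum_congr rfl fun l _ => by
          rw [← hev l, map_sum, Finset.sum_mul_sum, Finset.mul_sum]
          refine Finset.sum_congr rfl fun i _ => ?_
          rw [Finset.mul_sum]
          refine Finset.sum_congr rfl fun j _ => ?_
          rw [map_mul, map_ratCast]
          ring
  have hsum : ∑ l, (d l : ℂ) * (conj (v l) * v l) ≠ 0 := by
    have h1 : ∑ l, (d l : ℂ) * (conj (v l) * v l) = ((∑ l, (d l : ℝ) * Complex.normSq (v l) : ℝ) : ℂ) := by
      push_cast
      exact Finset.sum_congr rfl fun l _ => by rw [Complex.normSq_eq_conj_mul_self]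
    rw [h1, Complex.ofReal_ne_zero]
    obtain ⟨l, hl⟩ := Function.ne_iff.1 hv
    exact (Finset.sum_pos' (fun l _ => mul_nonneg (by exact_mod_cast (hd l).le) (Complex.normSq_nonneg _))
      ⟨l, Finset.mem_univ _, mul_pos (by exact_mod_cast hd l) (Complex.normSq_pos.2 hl)⟩).ne'
  have hq' := sub_eq_zero.1 ((mul_eq_zero.1 key).resolve_right hsum)
  rw [← Complex.normSq_eq_conj_mul_self, ← Complex.ofReal_ratCast, Complex.ofReal_inj] at hq'
  rw [Complex.norm_def, hq']

end Groth.Agent.FrobPull22
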