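import Groth.Agent.Lib.FrobPull22.Frobenius
import Groth.Agent.Lib.AVDegree22.IrrMinpoly
import Mathlib.LinearAlgebra.Semisimple
import Mathlib.RingTheory.Artinian.Module

/-!
# Consequences of the similitude property of the Frobenius endomorphism
-/

universe u

open CategoryTheory Limits AlgebraicGeometry MonoidalCategory CartesianMonoidalCategory MonObj
open Polynomial

set_option linter.style.haveILetI false
set_option backward.isDefEq.respectTransparency false

namespace Groth.Agent.FrobPull22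

/-- A singly generated algebra with squarefree minimal polynomial is semisimple. -/
theorem isSemisimpleRing_adjoin_singleton {K S : Type*} [Field K] [Ring S] [Algebra K S] (a : S)
    (hs : Squarefree (minpoly K a)) : IsSemisimpleRing (Algebra.adjoin K {a}) := by
  let R := K[X] ⧸ Ideal.span {minpoly K a}
  haveI : IsReduced R :=
    (Ideal.isRadical_iff_quotient_reduced _).mp (isRadical_iff_span_singleton.mp hs.isRadical)
  haveI : FiniteDimensional K R := (AdjoinRoot.powerBasis hs.ne_zero).finite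
  haveI : IsArtinianRing R := .of_finite K R
  haveI : IsSemisimpleRing R := IsArtinianRing.isSemisimpleRing_of_isReduced R
  let f : K[X] →ₐ[K] Algebra.adjoin K {a} :=
    aeval (⟨a, Algebra.subset_adjoin rfl⟩ : Algebra.adjoin K {a})
  have hval : ∀ p, ((f p : Algebra.adjoin K {a}) : S) = aeval a p := fun p =>
    (aeval_algHom_apply (Algebra.adjoin K {a}).val (⟨a, Algebra.subset_adjoin rfl⟩ : Algebra.adjoin K {a}) p).symm
  let g : R →+* Algebra.adjoin K {a} := Ideal.Quotient.lift _ f.toRingHom fun p hp => by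
    obtain ⟨r, rfl⟩ := Ideal.mem_span_singleton'.1 hp
    exact Subtype.ext ((hval _).trans (by rw [map_mul, minpoly.aeval, mul_zero]; rfl))
  refine g.isSemisimpleRing_of_surjective fun x => ?_
  obtain ⟨p, hp⟩ : ∃ p, aeval a p = (x : S) := by
    exact (SetLike.ext_iff.1 (Algebra.adjoin_singleton_eq_range_aeval K a) _).1 x.2
  exact ⟨Ideal.Quotient.mk _ p, Subtype.ext ((hval p).trans hp)⟩

theorem squarefree_map {K L : Type*} [Field K] [CharZero K] [Field L] (f : K →+* L) {p : K[X]}
    (h : Squarefree p) : Squarefree (p.map f) :=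
  ((PerfectField.separable_iff_squarefree.2 h).map (f := f)).squarefree

variable {k : Type u} [Field k] {A : Over (Spec (CommRingCat.of k))}
  [GrpObj A] [IsCommMonObj A] [IsProper A.hom] [GeometricallyIntegral A.hom]
  (K : Type u) [Field K] [Algebra k K] {l : ℕ} [Fact l.Prime]

/-- The roots of the characteristic polynomial on the Tate module are roots of the minimal polynomial. -/
theorem roots_charpoly_subset_minpoly [Module.Free ℤ_[l] (AbDual.TateMod A l (SGA7.pt (K := k) K))]
    [Module.Finite ℤ_[l] (AbDual.TateMod A l (SGA7.pt (K := k) K))] (φ : EndAV.End A) {C₀ : ℤ[X]}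
    (hC : (EndAV.End.tateRep l (SGA7.pt (K := k) K) φ).charpoly = C₀.map (Int.castRingHom ℤ_[l])) :
    ∃ N : ℕ, C₀.map (Int.castRingHom ℚ) ∣ minpoly ℚ (EndAV.toEnd0 φ) ^ N := by
  classical
  obtain ⟨-, Q, -, hQm₀, hQ0⟩ := AVDegree22.exists_int_minpoly φ
  let L := AlgebraicClosure ℚ_[l]
  let b := Module.Free.chooseBasis ℤ_[l] (AbDual.TateMod A l (SGA7.pt (K := k) K))
  let N := LinearMap.toMatrixAlgEquiv b (EndAV.End.tateRep l (SGA7.pt (K := k) K) φ)
  let NL := N.map (algebraMap ℤ_[l] L)
  have hN : N.charpoly = C₀.map (Int.castRingHom ℤ_[l]) := by rw [← hC]; exact LinearMap.charpoly_toMatrix _ b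
  have hNL : NL.charpoly = (C₀.map (Int.castRingHom ℚ)).map (algebraMap ℚ L) := by
    rw [Matrix.charpoly_map, hN, Polynomial.map_map, Polynomial.map_map]
    exact congrArg (C₀.map ·) (RingHom.ext_int _ _)
  have h0 : aeval NL (Q.map (Int.castRingHom L)) = 0 := by
    let Φ : EndAV.End A →+* _ := ((Algebra.ofId ℤ_[l] L).mapMatrix.toRingHom.comp
      (LinearMap.toMatrixAlgEquiv b).toAlgHom.toRingHom).comp (EndAV.End.tateRep l (SGA7.pt (K := k) K))
    refine Eq.trans (Eq.symm (AVDegree22.map_aeval_int (R := L) Φ φ Q)) ?_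
    rw [hQ0, map_zero]
  have hroot : ∀ a ∈ NL.charpoly.roots, (Q.map (Int.castRingHom L)).eval a = 0 := fun a ha => by
    have h1 := AVDegree22.roots_charpoly_aeval NL (Q.map (Int.castRingHom L))
    rw [h0, Matrix.charpoly_zero, roots_X_pow] at h1
    have h2 := Multiset.mem_map_of_mem (fun b => (Q.map (Int.castRingHom L)).eval b) ha
    rw [← h1, Multiset.mem_nsmul] at h2
    simpa using h2.2
  refine ⟨NL.charpoly.roots.card, (map_dvd_map' (algebraMap ℚ L)).1 ?_⟩
  rw [← hNL, Polynomial.map_pow, ← hQm₀, Polynomial.map_map,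
    RingHom.ext_int ((algebraMap ℚ L).comp (Int.castRingHom ℚ)) (Int.castRingHom L)]
  conv_lhs => rw [(IsAlgClosed.splits _).eq_prod_roots_of_monic (Matrix.charpoly_monic NL)]
  rw [← Multiset.prod_replicate, ← Multiset.map_const']
  exact Multiset.prod_dvd_prod_of_dvd _ _ fun a ha => dvd_iff_isRoot.2 (hroot a ha)

/-- The characteristic roots of a `q`-th power endomorphism have absolute value `√q`. -/
theorem norm_root_charpoly [Module.Free ℤ_[l] (AbDual.TateMod A l (SGA7.pt (K := k) K))]
    [Module.Finite ℤ_[l] (AbDual.TateMod A l (SGA7.pt (K := k) K))] (π : A ⟶ A) [IsMonHom π]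
    (hle : ∀ U : A.left.Opens, U ≤ π.left ⁻¹ᵁ U) {q : ℕ} (hq : q ≠ 0)
    (happ : ∀ (U : A.left.Opens) (s : Γ(A.left, U)), (π.left.appLE U U (hle U)).hom s = s ^ q) {C₀ : ℤ[X]}
    (hC : (EndAV.End.tateRep l (SGA7.pt (K := k) K) (EndAV.End.of π)).charpoly = C₀.map (Int.castRingHom ℤ_[l])) :
    ∀ α ∈ (C₀.map (Int.castRingHom ℂ)).roots, ‖α‖ = Real.sqrt q := by
  intro α hα
  obtain ⟨N, hN⟩ := roots_charpoly_subset_minpoly K (EndAV.End.of π) hC
  refine (minpoly_frobenius π hle hq happ).2 α ?_
  have h := Polynomial.map_dvd (algebraMap ℚ ℂ) hN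
  rw [Polynomial.map_map, Polynomial.map_pow,
    RingHom.ext_int ((algebraMap ℚ ℂ).comp (Int.castRingHom ℚ)) (Int.castRingHom ℂ)] at h
  have h2 := (Polynomial.mem_roots'.1 hα).2.dvd h
  rw [IsRoot, eval_pow] at h2
  exact eq_zero_of_pow_eq_zero h2

end Groth.Agent.FrobPull22
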