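import Groth.Agent.Lib.FrobPull22.Exists
import Groth.Agent.Lib.AVPRank22.Kernel
import Groth.Agent.Lib.VarDim.Normal
import Groth.Agent.Lib.SmoothReg17.Basic
import Groth.Agent.Lib.AbRigid.SmoothGI
import Groth.Agent.Lib.AbRigid.Hom

/-!
# Multiplication by `q` factors through the `q`-Frobenius
-/

universe u

open CategoryTheory Limits AlgebraicGeometry MonoidalCategory CartesianMonoidalCategory MonObj TopologicalSpace

set_option linter.style.haveILetI false
set_option backward.isDefEq.respectTransparency false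

namespace Groth.Agent.FrobPull22

section Root

variable (p : ℕ) [Fact p.Prime]

theorem eq_of_pow_eq {W : Scheme.{u}} [IsReduced W] [FrobSch.IsCharP W p] {U : W.Opens} {a b : Γ(W, U)}
    (h : a ^ p = b ^ p) : a = b := by
  let φ := FrobSch.powHom p Γ(W, U) (FrobSch.natCast_eq_zero_app W p U)
  have h1 : φ (a - b) = 0 := by rw [map_sub, FrobSch.powHom_apply, FrobSch.powHom_apply, h, sub_self]
  exact sub_eq_zero.1 (IsReduced.eq_zero _ ⟨p, h1⟩)

/-- A morphism whose pullbacks of sections are `p`-th powers factors through the absolute Frobenius. -/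
theorem exists_frob_factor {W Y : Scheme.{u}} [IsReduced W] [FrobSch.IsCharP W p] (f : W ⟶ Y)
    (h : ∀ (U : Y.Opens) (s : Γ(Y, U)), ∃ r : Γ(W, f ⁻¹ᵁ U), r ^ p = f.app U s) :
    ∃ g : W ⟶ Y, FrobSch.frob W p ≫ g = f := by
  have hp : p.Prime := Fact.out
  choose r hr using h
  let rh : ∀ U : Y.Opens, Γ(Y, U) →+* Γ(W, f ⁻¹ᵁ U) := fun U =>
    { toFun := r U
      map_one' := eq_of_pow_eq p (by rw [hr, map_one, one_pow])
      map_zero' := eq_of_pow_eq p (by rw [hr, map_zero, zero_pow hp.ne_zero])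
      map_add' := fun a b => eq_of_pow_eq p (by
        rw [hr, ← FrobSch.powHom_apply p Γ(W, f ⁻¹ᵁ U) (FrobSch.natCast_eq_zero_app W p _), map_add, map_add,
          FrobSch.powHom_apply, FrobSch.powHom_apply, hr, hr])
      map_mul' := fun a b => eq_of_pow_eq p (by rw [hr, map_mul, mul_pow, hr, hr]) }
  let c : Y.presheaf ⟶ (TopCat.Presheaf.pushforward CommRingCat f.base).obj W.presheaf :=
    { app := fun U => CommRingCat.ofHom (rh U.unop)
      naturality := fun U V i => by
        ext s
        refine eq_of_pow_eq p (W := W) ?_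
        show r V.unop (Y.presheaf.map i s) ^ p =
          (W.presheaf.map ((Opens.map f.base).map i.unop).op (r U.unop s)) ^ p
        rw [hr, ← map_pow, hr]
        exact ConcreteCategory.congr_hom (f.naturality i) s }
  let gs : W.toSheafedSpace ⟶ Y.toSheafedSpace := InducedCategory.homMk { base := f.base, c := c }
  have hloc : ∀ x : W, IsLocalHom (gs.hom.stalkMap x).hom := fun x => by
    constructor
    intro t ht
    obtain ⟨U, hxU, s, rfl⟩ := Y.presheaf.exists_germ_eq (x := f x) t
    have h1 := PresheafedSpace.stalkMap_germ_apply gs.hom U x hxU s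
    erw [h1] at ht
    change IsUnit (W.presheaf.germ (f ⁻¹ᵁ U) x hxU (r U s)) at ht
    have h2 : IsUnit ((f.stalkMap x).hom (Y.presheaf.germ U (f x) hxU s)) := by
      rw [Scheme.Hom.germ_stalkMap_apply, ← hr, map_pow]
      exact ht.pow p
    haveI : IsLocalHom (f.stalkMap x).hom := f.toLRSHom.prop x
    exact (isUnit_map_iff (f.stalkMap x).hom _).1 h2
  refine ⟨⟨LocallyRingedSpace.homMk gs hloc⟩, Scheme.Hom.ext (by
    simp only [Scheme.Hom.comp_base, FrobSch.frob_base, Category.id_comp]; rfl) fun U => ?_⟩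
  rw [Scheme.Hom.comp_app]
  change (CommRingCat.ofHom (rh U) ≫ (FrobSch.frob W p).app (f ⁻¹ᵁ U)) ≫ W.presheaf.map (𝟙 _) = f.app U
  rw [W.presheaf.map_id, Category.comp_id]
  ext s
  exact hr U s

end Root

/-- An endomorphism preserving opens is determined by its action on affine sections. -/
theorem eq_of_appLE_eq {W : Scheme.{u}} (F G : W ⟶ W) (hF : ∀ U : W.Opens, U ≤ F ⁻¹ᵁ U)
    (hG : ∀ U : W.Opens, U ≤ G ⁻¹ᵁ U)
    (h : ∀ (U : W.Opens) (s : Γ(W, U)), (F.appLE U U (hF U)).hom s = (G.appLE U U (hG U)).hom s) : F = G := by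
  refine W.affineCover.hom_ext _ _ fun i => ?_
  set V := (W.affineCover.f i).opensRange
  have hV : IsAffineOpen V := isAffineOpen_opensRange _
  have h1 : hV.fromSpec ≫ F = hV.fromSpec ≫ G := by
    rw [← hV.SpecMap_appLE_fromSpec F hV (hF V), ← hV.SpecMap_appLE_fromSpec G hV (hG V),
      CommRingCat.hom_ext (RingHom.ext (h V))]
  have h2 : V.ι ≫ F = V.ι ≫ G := by
    rw [IsAffineOpen.fromSpec, Category.assoc, Category.assoc, cancel_epi] at h1
    exact h1
  rw [← Scheme.Hom.isoOpensRange_hom_ι (W.affineCover.f i), Category.assoc, Category.assoc]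
  exact congrArg _ h2

variable {k : Type u} [Field k] {A : Over (Spec (CommRingCat.of k))}
  [GrpObj A] [IsCommMonObj A] [IsProper A.hom] [GeometricallyIntegral A.hom]

/-- Multiplication by the characteristic factors through the absolute Frobenius. -/
theorem exists_frob_factor_pow [PerfectField k] (p : ℕ) [Fact p.Prime] [CharP k p]
    [FrobSch.IsCharP A.left p] :
    ∃ g : A.left ⟶ A.left, FrobSch.frob A.left p ≫ g = (𝟙 A ^ p).left := by
  have hp : p.Prime := Fact.out
  haveI : IsIntegral A.left := GeometricallyIntegral.isIntegral_of_subsingleton A.hom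
  haveI : Smooth A.hom :=
    @smooth_of_grpObj k _ _ A.hom _ (show GrpObj (Over.mk A.hom) from ‹GrpObj A›) _
  obtain ⟨hf, hfl, hs⟩ := AVDegree22.isFinite_flat_surjective_pow A hp.pos
  haveI := hs
  haveI : IsDominant (𝟙 A ^ p).left := ⟨(𝟙 A ^ p).left.surjective.denseRange⟩
  let K := A.left.functionField
  haveI : CharP K p := charP_of_injective_ringHom (algebraMap k K).injective p
  haveI : ExpChar k p := ExpChar.prime hp
  haveI : PerfectRing k p := PerfectField.toPerfectRing p
  refine exists_frob_factor p _ fun U s => ?_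
  set V := (𝟙 A ^ p).left ⁻¹ᵁ U
  rcases isEmpty_or_nonempty V with hV | hV
  · refine ⟨0, TopCat.Presheaf.section_ext A.left.sheaf _ _ _ fun x hx => (hV.false ⟨x, hx⟩).elim⟩
  haveI : Nonempty U := by
    obtain ⟨x, hx⟩ := hV
    exact ⟨⟨_, hx⟩⟩
  have hη : genericPoint A.left ∈ U := ((genericPoint_spec A.left).mem_open_set_iff U.2).2 (by
    obtain ⟨⟨x, hx⟩⟩ := ‹Nonempty U›; exact ⟨x, trivial, hx⟩)
  have hfield : A.left.germToFunctionField V ((𝟙 A ^ p).left.app U s) =
      AVDegree22.fieldMap (𝟙 A ^ p) (A.left.germToFunctionField U s) :=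
    (AVDegree22.fieldMap_val (𝟙 A ^ p) hη s).symm
  obtain ⟨z, hz⟩ : ∃ z : K, z ^ p = A.left.germToFunctionField V ((𝟙 A ^ p).left.app U s) := by
    by_contra h
    obtain ⟨D, hD⟩ := AVPRank22.exists_derivation_ne_zero (k := k) p
      (x := A.left.germToFunctionField V ((𝟙 A ^ p).left.app U s)) (not_exists.1 h)
    refine hD ?_
    rw [hfield]
    exact AVPRank22.derivation_fieldMap_pow p D _
  obtain ⟨a, ha⟩ := VarDim.exists_section_of_integral (SmoothReg17.isIntegrallyClosed_stalk A.hom) V z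
    ⟨Polynomial.X ^ p - Polynomial.C ((𝟙 A ^ p).left.app U s), Polynomial.monic_X_pow_sub_C _ hp.ne_zero, by
      rw [Polynomial.eval₂_sub, Polynomial.eval₂_X_pow, Polynomial.eval₂_C, hz]
      exact sub_self _⟩
  refine ⟨a, A.left.germToFunctionField_injective V ?_⟩
  rw [map_pow, ha, hz]

variable [Finite k]

/-- Multiplication by `q` factors through the `q`-Frobenius, on both sides. -/
theorem exists_verschiebung (π : A ⟶ A) [IsMonHom π] (hle : ∀ U : A.left.Opens, U ≤ π.left ⁻¹ᵁ U)
    (hb : π.left.base = 𝟙 _)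
    (happ : ∀ (U : A.left.Opens) (s : Γ(A.left, U)), (π.left.appLE U U (hle U)).hom s = s ^ Nat.card k) :
    ∃ (v : A ⟶ A) (_ : IsMonHom v), π ≫ v = (𝟙 A) ^ Nat.card k ∧ v ≫ π = (𝟙 A) ^ Nat.card k := by
  classical
  letI := Fintype.ofFinite k
  obtain ⟨p, hchar⟩ := CharP.exists k
  haveI := hchar
  obtain ⟨m, hp, hcard⟩ := FiniteField.card k p
  haveI := Fact.mk hp
  have hq : Nat.card k = p ^ (m : ℕ) := by rw [Nat.card_eq_fintype_card, hcard]
  haveI : FrobSch.IsCharP A.left p := FrobSch.IsCharP.of_hom A.hom p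
  haveI : IsIntegral A.left := GeometricallyIntegral.isIntegral_of_subsingleton A.hom
  obtain ⟨hle', happ'⟩ := frobIter_appLE p A.left m
  have hπ : π.left = frobIter p A.left m :=
    eq_of_appLE_eq _ _ hle hle' fun U s => by rw [happ, happ', hq]
  obtain ⟨g, hg⟩ := exists_frob_factor_pow (A := A) p
  let gi : ℕ → (A.left ⟶ A.left) := fun j => Nat.rec (𝟙 _) (fun _ h => g ≫ h) j
  have hit : ∀ j, frobIter p A.left j ≫ gi j = (𝟙 A ^ p ^ j).left := fun j => by
    induction j with
    | zero => rw [pow_zero, pow_one]; exact Category.id_comp _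
    | succ j ih =>
      show (frobIter p A.left j ≫ FrobSch.frob A.left p) ≫ g ≫ gi j = _
      rw [Category.assoc, reassoc_of% hg, ← Category.assoc, frobIter_comp, Category.assoc, ih, ← Over.comp_left,
        TateTors22.comp_pow_id, ← pow_mul, ← pow_succ']
  have h := hit m
  rw [← hπ, ← hq] at h
  haveI : Epi π.left := by
    haveI : IsDominant π.left := ⟨by
      have : Function.Surjective π.left.base := fun x => ⟨x, by rw [hb]; rfl⟩
      exact this.denseRange⟩
    haveI : Surjective π.left := ⟨fun x => ⟨x, by rw [hb]; rfl⟩⟩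
    haveI : Flat π.left := AbRigid.flat_of_surjective A A π
    exact Flat.epi_of_flat_of_surjective _
  let v : A ⟶ A := Over.homMk (gi m) (by
    refine (cancel_epi π.left).1 ?_
    rw [reassoc_of% h]
    exact (Over.w _).trans (Over.w π).symm)
  haveI : Epi π := ⟨fun a b e => Over.OverMorphism.ext ((cancel_epi π.left).1 (congrArg (fun c => c.left) e))⟩
  have h1 : π ≫ v = 𝟙 A ^ Nat.card k := Over.OverMorphism.ext h
  have hpc : ∀ n : ℕ, (𝟙 A ^ n) ≫ π = π ^ n := fun n => by
    induction n with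
    | zero => rw [pow_zero, pow_zero, MonObj.one_comp]
    | succ n ih => rw [pow_succ, MonObj.mul_comp, ih, Category.id_comp, pow_succ]
  have h2 : v ≫ π = 𝟙 A ^ Nat.card k := by
    refine (cancel_epi π).1 ?_
    rw [← Category.assoc, h1, hpc, MonObj.comp_pow, Category.comp_id]
  refine ⟨v, AbRigid.isMonHom_of_one A A v ?_, h1, h2⟩
  conv_lhs => rw [← IsMonHom.one_hom π, Category.assoc, h1]
  haveI := TateTors22.isMonHom_pow (A := A) (Nat.card k)
  exact IsMonHom.one_hom (𝟙 A ^ Nat.card k)

end Groth.Agent.FrobPull22
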