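import Groth.Agent.Lib.Zeta25.ZetaSeries
import Mathlib.RingTheory.MvPolynomial.Symmetric.FundamentalTheorem
import Mathlib.RingTheory.Polynomial.Vieta
import Mathlib.FieldTheory.IsAlgClosed.Basic
import Mathlib.Analysis.Complex.Polynomial.Basic

/-!
# Exterior products of the roots and the zeta function
-/

universe u

open Polynomial

set_option linter.style.haveILetI false

namespace Groth.Agent.FrobPull22

/-- The products over the `j`-element sub-multisets of the roots of a monic integer polynomial are integral. -/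
theorem exists_int_prod_powersetCard (P : ℤ[X]) (hP : P.Monic) (j : ℕ) :
    ∃ Q : ℤ[X], Q.map (Int.castRingHom ℂ) = (((P.map (Int.castRingHom ℂ)).roots.powersetCard j).map
      (fun I => (1 : ℂ[X]) - C I.prod * X)).prod := by
  classical
  set G := P.map (Int.castRingHom ℂ)
  have hG : G.Monic := hP.map _
  set d := G.roots.card
  obtain ⟨r, hr⟩ : ∃ r : Fin d → ℂ, (Finset.univ : Finset (Fin d)).val.map r = G.roots := by
    refine ⟨fun i => G.roots.toList[i.1]'(by rw [Multiset.length_toList]; exact i.2), ?_⟩
    rw [Fin.univ_val_map]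
    conv_rhs => rw [← Multiset.coe_toList G.roots]
    congr 1
    exact List.ext_getElem (by simp [d]) fun i h1 h2 => by simp
  let M : Polynomial (MvPolynomial (Fin d) ℤ) :=
    ∏ S ∈ (Finset.univ : Finset (Fin d)).powersetCard j, (1 - C (∏ i ∈ S, MvPolynomial.X i) * X)
  have hsym : ∀ n, (M.coeff n).IsSymmetric := fun n e => by
    have key : M.map (MvPolynomial.rename e : MvPolynomial (Fin d) ℤ →ₐ[ℤ] MvPolynomial (Fin d) ℤ).toRingHom = M := by
      simp only [M, Polynomial.map_prod, Polynomial.map_sub, Polynomial.map_one, Polynomial.map_mul, map_C, map_X]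
      refine Finset.prod_nbij' (fun S => S.map e.toEmbedding) (fun S => S.map e.symm.toEmbedding) ?_ ?_ ?_ ?_ ?_
      · intro S hS; simp only [Finset.mem_powersetCard, Finset.subset_univ, true_and, Finset.card_map] at hS ⊢; exact hS
      · intro S hS; simp only [Finset.mem_powersetCard, Finset.subset_univ, true_and, Finset.card_map] at hS ⊢; exact hS
      · intro S _; ext i; simp
      · intro S _; ext i; simp
      · intro S _
        rw [Finset.prod_map, AlgHom.toRingHom_eq_coe, RingHom.coe_coe, map_prod]
        simp only [MvPolynomial.rename_X]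
        rfl
    conv_rhs => rw [← key]
    rw [coeff_map]
    rfl
  have hint : ∀ n, ∃ z : ℤ, (z : ℂ) = MvPolynomial.aeval r (M.coeff n) := fun n => by
    obtain ⟨Q, hQ⟩ := MvPolynomial.esymmAlgHom_surjective (σ := Fin d) ℤ (n := d) (by simp) ⟨_, hsym n⟩
    have hQ' := congrArg Subtype.val hQ
    rw [MvPolynomial.esymmAlgHom_apply] at hQ'
    have he : ∀ i : Fin d, ∃ z : ℤ, (z : ℂ) = MvPolynomial.aeval r (MvPolynomial.esymm (Fin d) ℤ (i + 1)) := fun i => by
      have hcard : G.roots.card = G.natDegree := (IsAlgClosed.splits G).natDegree_eq_card_roots.symm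
      have hk : d - (i + 1) ≤ G.natDegree := by rw [← hcard]; exact Nat.sub_le _ _
      have h := coeff_eq_esymm_roots_of_card hcard hk
      rw [hG.leadingCoeff, one_mul, coeff_map, ← hcard,
        show G.roots.card - (d - (i + 1)) = i + 1 from by have := i.2; omega] at h
      refine ⟨(-1) ^ (i.1 + 1) * P.coeff (d - (i + 1)), ?_⟩
      rw [MvPolynomial.aeval_esymm_eq_multiset_esymm, hr, Int.cast_mul, ← eq_intCast (Int.castRingHom ℂ) (P.coeff _), h,
        ← mul_assoc]
      push_cast
      rw [← mul_pow, neg_one_mul, neg_neg, one_pow, one_mul]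
    choose z hz using he
    refine ⟨MvPolynomial.aeval z Q, ?_⟩
    rw [show M.coeff n = _ from hQ'.symm, ← AlgHom.comp_apply, MvPolynomial.comp_aeval, ← funext hz]
    exact MvPolynomial.map_aeval z (Int.castRingHom ℂ) Q |>.trans (by
      rw [MvPolynomial.aeval_def]; congr 1)
  choose z hz using hint
  refine ⟨∑ n ∈ Finset.range (M.natDegree + 1), C (z n) * X ^ n, ?_⟩
  have hM : M.map (MvPolynomial.aeval r : MvPolynomial (Fin d) ℤ →ₐ[ℤ] ℂ).toRingHom =
      ((G.roots.powersetCard j).map (fun I => (1 : ℂ[X]) - C I.prod * X)).prod := by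
    rw [← hr, Multiset.powersetCard_map, Multiset.map_map, ← Finset.map_val_val_powersetCard, Multiset.map_map]
    simp only [M, Polynomial.map_prod, Polynomial.map_sub, Polynomial.map_one, Polynomial.map_mul, map_C, map_X]
    rw [Finset.prod_eq_multiset_prod]
    refine congrArg Multiset.prod (Multiset.map_congr rfl fun S _ => ?_)
    simp only [Function.comp_apply, AlgHom.toRingHom_eq_coe, RingHom.coe_coe, map_prod, MvPolynomial.aeval_X]
    rw [← map_prod]
    rfl
  rw [← hM]
  conv_rhs => rw [M.as_sum_range_C_mul_X_pow]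
  simp only [Polynomial.map_sum, Polynomial.map_mul, Polynomial.map_pow, map_C, map_X]
  exact Finset.sum_congr rfl fun n _ => by
    show C ((z n : ℤ) : ℂ) * X ^ n = _
    rw [hz]
    rfl

section Series

open PowerSeries

variable {K : Type*} [Field K] [CharZero K]

theorem expL_multiset_sum {ι : Type*} (m : Multiset ι) (L : ι → K⟦X⟧)
    (hL : ∀ i ∈ m, PowerSeries.constantCoeff (L i) = 0) :
    Zeta25.expL (m.map L).sum = (m.map fun i => Zeta25.expL (L i)).prod := by
  induction m using Multiset.induction_on with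
  | empty => simp [Zeta25.expL_zero]
  | cons a m ih =>
    obtain ⟨ha, hm⟩ := Multiset.forall_mem_cons.1 hL
    rw [Multiset.map_cons, Multiset.sum_cons, Multiset.map_cons, Multiset.prod_cons, Zeta25.expL_add ha ?_, ih hm]
    rw [map_multiset_sum, Multiset.map_map]
    exact Multiset.sum_eq_zero fun x hx => by
      obtain ⟨i, hi, rfl⟩ := Multiset.mem_map.1 hx
      exact hm i hi

theorem prod_one_sub_eq_expL (S : Multiset K) :
    (((S.map fun c => (1 : K[X]) - Polynomial.C c * Polynomial.X).prod : K[X]) : K⟦X⟧) =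
      Zeta25.expL (S.map fun c => rescale c (Zeta25.logOneSub K 1)).sum := by
  rw [expL_multiset_sum _ _ fun c _ => by
    rw [← coeff_zero_eq_constantCoeff_apply, coeff_rescale, coeff_zero_eq_constantCoeff,
      Zeta25.constantCoeff_logOneSub, mul_zero]]
  rw [← Polynomial.coeToPowerSeries.ringHom_apply, map_multiset_prod, Multiset.map_map]
  refine congrArg Multiset.prod (Multiset.map_congr rfl fun c _ => ?_)
  rw [← Zeta25.one_sub_C_mul_X_eq]
  simp [Polynomial.coeToPowerSeries.ringHom_apply]

/-- A series with logarithm `∑ N_m t^m / m`, `N_m = ∏ (1 − αᵐ)`, is the alternating product. -/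
theorem expL_mul_prod_even (S : Multiset K) (L : K⟦X⟧) (hL0 : PowerSeries.constantCoeff L = 0)
    (hL : ∀ m : ℕ, 0 < m → PowerSeries.coeff m L = (S.map fun a => 1 - a ^ m).prod / m) :
    Zeta25.expL L * ∏ j ∈ (Finset.range (S.card + 1)).filter (fun j => Even j),
        ((((S.powersetCard j).map fun I => (1 : K[X]) - Polynomial.C I.prod * Polynomial.X).prod : K[X]) : K⟦X⟧) =
      ∏ j ∈ (Finset.range (S.card + 1)).filter (fun j => Odd j),
        ((((S.powersetCard j).map fun I => (1 : K[X]) - Polynomial.C I.prod * Polynomial.X).prod : K[X]) : K⟦X⟧) := by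
  classical
  let E : ℕ → K⟦X⟧ := fun j => (((S.powersetCard j).map Multiset.prod).map fun c => rescale c (Zeta25.logOneSub K 1)).sum
  have hE : ∀ j, ((((S.powersetCard j).map fun I => (1 : K[X]) - Polynomial.C I.prod * Polynomial.X).prod : K[X]) : K⟦X⟧) =
      Zeta25.expL (E j) := fun j => by
    rw [← prod_one_sub_eq_expL, Multiset.map_map]
    rfl
  have hE0 : ∀ j, PowerSeries.constantCoeff (E j) = 0 := fun j => by
    simp only [E, map_multiset_sum, Multiset.map_map, Function.comp_def]
    exact Multiset.sum_eq_zero fun x hx => by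
      obtain ⟨i, -, rfl⟩ := Multiset.mem_map.1 hx
      rw [← coeff_zero_eq_constantCoeff_apply, coeff_rescale, coeff_zero_eq_constantCoeff,
        Zeta25.constantCoeff_logOneSub, mul_zero]
  simp only [hE]
  rw [← Zeta25.expL_sum _ _ (fun j _ => hE0 j), ← Zeta25.expL_sum _ _ (fun j _ => hE0 j),
    ← Zeta25.expL_add hL0 (by rw [map_sum]; exact Finset.sum_eq_zero fun j _ => hE0 j)]
  congr 1
  ext m
  rcases Nat.eq_zero_or_pos m with rfl | hm
  · simp only [coeff_zero_eq_constantCoeff, map_add, map_sum, hL0, hE0, Finset.sum_const_zero, add_zero]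
  have hcoeff : ∀ j, PowerSeries.coeff m (E j) = -((S.map fun a => a ^ m).esymm j / m) := fun j => by
    simp only [E, Multiset.esymm, Multiset.powersetCard_map, map_multiset_sum, Multiset.map_map, Function.comp_def,
      coeff_rescale, Zeta25.logOneSub, coeff_mk, one_dvd, if_true, Multiset.prod_map_pow, Multiset.map_id']
    rw [Multiset.sum_map_mul_right]
    push_cast
    ring
  rw [map_add, map_sum, map_sum, hL m hm]
  simp only [hcoeff, Finset.sum_neg_distrib]
  have key : (S.map fun a => 1 - a ^ m).prod =
      ∑ j ∈ Finset.range (S.card + 1), (-1) ^ j * (S.map fun a => a ^ m).esymm j := by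
    have h := congrArg (Polynomial.eval 1) (Multiset.prod_X_sub_X_eq_sum_esymm (S.map fun a => a ^ m))
    rw [Polynomial.eval_multiset_prod, Multiset.map_map, Polynomial.eval_finsetSum, Multiset.card_map] at h
    simp only [Multiset.map_map, Function.comp_def, Polynomial.eval_sub, Polynomial.eval_X, Polynomial.eval_C,
      Polynomial.eval_mul, Polynomial.eval_pow, Polynomial.eval_neg, Polynomial.eval_one, one_pow, mul_one] at h
    exact h
  rw [key, Finset.sum_filter, Finset.sum_filter, Finset.sum_div, ← sub_eq_add_neg, ← Finset.sum_sub_distrib,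
    ← Finset.sum_neg_distrib]
  refine Finset.sum_congr rfl fun j _ => ?_
  rcases Nat.even_or_odd j with h | h
  · rw [if_pos h, if_neg (Nat.not_odd_iff_even.2 h), h.neg_one_pow]; ring
  · rw [if_pos h, if_neg (Nat.not_even_iff_odd.2 h), h.neg_one_pow]; ring

end Series

end Groth.Agent.FrobPull22
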